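import Groth.Agent.Lib.Helper16.PicFF.Main

/-!
# Field case: finite-dimensional `H⁰(X, O_X)` gives a semilocal ring of global functions (helper16)
-/

set_option autoImplicit false
universe u
open CategoryTheory CategoryTheory.Limits AlgebraicGeometry Opposite TopologicalSpace

namespace H16PicFF

theorem nonempty_iso_of_cl_eq {Y : Scheme.{u}} {L L' : Y.Modules}
    (h : PicF.cl L = PicF.cl L') : Nonempty (L ≅ L') := by
  have h1 := Quot.eqvGen_exact h
  have he : Equivalence (fun L L' : Y.Modules => Nonempty (L ≅ L')) :=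
    ⟨fun L => ⟨Iso.refl L⟩, fun ⟨e⟩ => ⟨e.symm⟩, fun ⟨e⟩ ⟨e'⟩ => ⟨e ≪≫ e'⟩⟩
  exact (he.eqvGen_iff).mp h1

theorem finite_maximalSpectrum_of_finite_H0 (k : Type u) [Field k] (X : Scheme.{u})
    [X.Over (Spec (CommRingCat.of k))]
    (hfin : Module.Finite k (Coh.HH X (Coh.structureModule X) 0)) :
    Finite (MaximalSpectrum Γ(X, ⊤)) := by
  have hT : IsTerminal (⊤ : X.Opens) := isTerminalTop
  let ρ : k →+* Γ(X, ⊤) :=
    (Coh.resTop X (op ⊤)).comp (Coh.toGlobal (X ↘ Spec (CommRingCat.of k)))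
  letI : Algebra k Γ(X, ⊤) := ρ.toAlgebra
  obtain ⟨b, s, hs⟩ := Module.Finite.exists_fin (R := k)
    (M := Coh.HH X (Coh.structureModule X) 0)
  let Ef : Coh.HH X (Coh.structureModule X) 0 → Γ(X, ⊤) :=
    fun y => Sheaf.H.equiv₀ (Coh.toAb (Coh.structureModule X)) hT y
  let σ : Fin b → Γ(X, ⊤) := fun j => Ef (s j)
  have hsm : ∀ (c : k) (y : Coh.HH X (Coh.structureModule X) 0),
      Ef (c • y) = ρ c * Ef y :=
    fun c y => (Sheaf.H.equiv₀_naturality hT
      (Coh.smulAb (Coh.structureModule X) (Coh.toGlobal (X ↘ Spec (CommRingCat.of k)) c)) y).symm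
  haveI : Module.Finite k Γ(X, ⊤) := by
    refine Module.Finite.of_surjective (Fintype.linearCombination k σ) ?_
    intro x
    obtain ⟨z, hz⟩ := (Sheaf.H.equiv₀ (Coh.toAb (Coh.structureModule X)) hT).surjective x
    have hx : z ∈ Submodule.span k (Set.range s) := by rw [hs]; trivial
    obtain ⟨c, hc⟩ := (Submodule.mem_span_range_iff_exists_fun k).mp hx
    refine ⟨c, ?_⟩
    rw [Fintype.linearCombination_apply]
    have h1 := congrArg (Sheaf.H.equiv₀ (Coh.toAb (Coh.structureModule X)) hT) hc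
    rw [map_sum] at h1
    refine (Finset.sum_congr rfl (fun j _ => ?_)).trans (h1.trans hz)
    rw [Algebra.smul_def]
    exact (hsm (c j) (s j)).symm
  haveI : IsArtinianRing Γ(X, ⊤) := IsArtinianRing.of_finite k _
  infer_instance

end H16PicFF
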