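import Groth.Agent.Lib.Helper16.PicFF.PushInv
import Groth.Agent.Lib.Helper16.PicFF.Field
import Mathlib.AlgebraicGeometry.Morphisms.UniversallyOpen
import Mathlib.AlgebraicGeometry.PullbackCarrier

/-!
# Pushforward of an invertible module trivialised locally for a flat open covering family (helper16)

Family versions of the results of `PushInv`: `f : X ⟶ Y` qcqs with `O_Y ≅ f_* O_X`, `(g a : Y' a ⟶ Y)` a
jointly surjective family of flat open morphisms, `L` invertible on `X` whose pullback to each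
`X ×_Y Y' a` is locally (on `Y' a`) trivial. Then `f_* L` is invertible and `f^* f_* L ≅ L`.
-/

set_option autoImplicit false
universe u
open CategoryTheory CategoryTheory.Limits AlgebraicGeometry Opposite TopologicalSpace

namespace H16PicFF

open Groth.Agent.Lib.Helper3 Groth.Agent.Lib.Helper3.QCSec Groth.Agent.Lib.Helper3.PbBasic
  Groth.Agent.Lib.Helper3.InvGen Groth.Agent.Lib.Helper17.UnitBC
  Groth.Agent.Lib.Helper3.FreeBasis Groth.Agent.Lib.Helper3.SecLoc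

/-- pointwise descent of generators of an invertible module. -/
theorem exists_isGen_nhd_of_isGen_pull {X' X : Scheme.{u}} (g' : X' ⟶ X) {L : X.Modules}
    (hL : PicF.IsInvertible L) {U : X.Opens} (e : Γ(L, U)) {N' : X'.Opens} (hN' : N' ≤ g' ⁻¹ᵁ U)
    (h : IsGen ((Scheme.Modules.pullback g').obj L) N' (res _ hN' (pull g' L U e)))
    (x' : X') (hx' : x' ∈ N') :
    ∃ (W : X.Opens) (hW : W ≤ U), g' x' ∈ W ∧ IsGen L W (res L hW e) := by
  obtain ⟨W₀, ℓ₀, hxW₀, hg₀⟩ := exists_isGen hL (g' x')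
  have hWU : W₀ ⊓ U ≤ U := inf_le_right
  have hg : IsGen L (W₀ ⊓ U) (res L inf_le_left ℓ₀) := hg₀.mono inf_le_left
  obtain ⟨c, hc⟩ := hg.self.exists_coord (res L hWU e)
  have hpl := isGen_pull g' hg
  have hN''1 : N' ⊓ g' ⁻¹ᵁ (W₀ ⊓ U) ≤ N' := inf_le_left
  have hN''2 : N' ⊓ g' ⁻¹ᵁ (W₀ ⊓ U) ≤ g' ⁻¹ᵁ (W₀ ⊓ U) := inf_le_right
  have hpl' := (hpl.mono hN''2).self
  have hpe : IsGenAt ((Scheme.Modules.pullback g').obj L) (N' ⊓ g' ⁻¹ᵁ (W₀ ⊓ U))
      (res _ hN''2 (pull g' L (W₀ ⊓ U) (res L hWU e))) := by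
    rw [← res_pull g' L hWU e, res_res]
    have := (h.mono hN''1).self
    rwa [res_res] at this
  rw [← hc, pull_smul, res_smul] at hpe
  obtain ⟨u, hu, hu2⟩ := hpl'.exists_unit hpe
  have huc : rres X' hN''2 ((g'.app (W₀ ⊓ U)) c) = u := hpl'.smul_inj hu2
  have hunit' : IsUnit (rres X' hN''2 ((g'.app (W₀ ⊓ U)) c)) := by
    rw [huc]
    exact hu
  have hx'b : x' ∈ X'.basicOpen (rres X' hN''2 ((g'.app (W₀ ⊓ U)) c)) := by
    rw [X'.basicOpen_of_isUnit hunit']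
    exact ⟨hx', hxW₀, hN' hx'⟩
  rw [Scheme.basicOpen_res] at hx'b
  have h1 : x' ∈ X'.basicOpen ((g'.app (W₀ ⊓ U)) c) := hx'b.2
  rw [← Scheme.preimage_basicOpen] at h1
  refine ⟨X.basicOpen c, (X.basicOpen_le c).trans hWU, h1, ?_⟩
  have h2 : res L ((X.basicOpen_le c).trans hWU) e = res L (X.basicOpen_le c) (res L hWU e) :=
    (res_res L _ _ e).symm
  rw [h2, ← hc, res_smul]
  exact (hg.mono (X.basicOpen_le c)).smul_unit (X.toRingedSpace.isUnit_res_basicOpen c)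

section Family

variable {X Y : Scheme.{u}} (f : X ⟶ Y) {ι : Type*} {Y' X' : ι → Scheme.{u}}
  (g : ∀ a, Y' a ⟶ Y) (g' : ∀ a, X' a ⟶ X) (f' : ∀ a, X' a ⟶ Y' a)

/-- **`f_* L` is invertible** (family of flat open maps, pullbacks locally trivial over the base). -/
theorem isInvertible_pushforward_of_family [QuasiCompact f] [QuasiSeparated f]
    (hf : ∀ V : Y.Opens, Function.Bijective (f.app V))
    (hc : ∀ a, IsPullback (g' a) (f' a) f (g a)) [∀ a, Flat (g a)]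
    (hopen : ∀ a, IsOpenMap (g a))
    (hsurj : ∀ y : Y, ∃ a, ∃ y' : Y' a, g a y' = y)
    (L : X.Modules) (hL : PicF.IsInvertible L)
    (hT : ∀ a (y' : Y' a), ∃ V'' : (Y' a).Opens, y' ∈ V'' ∧
      ∃ t : Γ((Scheme.Modules.pullback (g' a)).obj L, f' a ⁻¹ᵁ V''),
        IsGen ((Scheme.Modules.pullback (g' a)).obj L) (f' a ⁻¹ᵁ V'') t) :
    PicF.IsInvertible ((Scheme.Modules.pushforward f).obj L) := by
  haveI : L.IsQuasicoherent := InvCoh.isQuasicoherent_of_isInvertible hL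
  have key : ∀ y : Y, ∃ (U : Y.Opens) (e : Fin 1 → Γ((Scheme.Modules.pushforward f).obj L, U)),
      y ∈ U ∧ IsBasis ((Scheme.Modules.pushforward f).obj L) U e := by
    intro y
    obtain ⟨a, y', hy'⟩ := hsurj y
    obtain ⟨V, hV, hyV⟩ := QCProps.exists_affine_nbhd y
    obtain ⟨V'', hV''mem, t, ht⟩ := hT a y'
    have hy'V : y' ∈ g a ⁻¹ᵁ V := by
      show g a y' ∈ V
      rw [hy']
      exact hyV
    obtain ⟨V'₀, hV'₀, hy'V'₀, hsub⟩ := exists_isAffineOpen_mem_and_subset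
      (show y' ∈ V'' ⊓ g a ⁻¹ᵁ V from ⟨hV''mem, hy'V⟩)
    have hV'₀V : V'₀ ≤ g a ⁻¹ᵁ V := fun z hz => (hsub hz).2
    let W : Y.Opens := ⟨(fun z => g a z) '' (V'₀ : Set (Y' a)), hopen a _ V'₀.isOpen⟩
    have hyW : y ∈ W := ⟨y', hy'V'₀, hy'⟩
    obtain ⟨r, hrW, hyr⟩ := hV.exists_basicOpen_le (V := W) ⟨y, hyW⟩ hyV
    have hD : IsAffineOpen (Y.basicOpen r) := hV.basicOpen r
    have hV'eq : (Y' a).basicOpen ((g a).appLE V V'₀ hV'₀V r) =
        V'₀ ⊓ g a ⁻¹ᵁ (Y.basicOpen r) := Scheme.basicOpen_appLE _ _ _ _ _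
    have hV' : IsAffineOpen ((Y' a).basicOpen ((g a).appLE V V'₀ hV'₀V r)) := hV'₀.basicOpen _
    have hV'D : (Y' a).basicOpen ((g a).appLE V V'₀ hV'₀V r) ≤ g a ⁻¹ᵁ (Y.basicOpen r) := by
      rw [hV'eq]
      exact inf_le_right
    have hV'V'' : f' a ⁻¹ᵁ ((Y' a).basicOpen ((g a).appLE V V'₀ hV'₀V r)) ≤ f' a ⁻¹ᵁ V'' := by
      intro z hz
      have hz' : f' a z ∈ V'₀ ⊓ g a ⁻¹ᵁ (Y.basicOpen r) := by
        rw [← hV'eq]
        exact hz
      exact (hsub hz'.1).1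
    have hφ : ((g a).appLE (Y.basicOpen r) _ hV'D).hom.FaithfullyFlat := by
      rw [RingHom.FaithfullyFlat.iff_flat_and_comap_surjective]
      refine ⟨(g a).flat_appLE hD hV' hV'D, ?_⟩
      intro 𝔭
      obtain ⟨x, hx⟩ := hD.isoSpec.hom.homeomorph.surjective 𝔭
      obtain ⟨z, hzV'₀, hz⟩ : ∃ z : Y' a, z ∈ V'₀ ∧ g a z = x.1 := hrW x.2
      have hzV' : z ∈ (Y' a).basicOpen ((g a).appLE V V'₀ hV'₀V r) := by
        rw [hV'eq]
        refine ⟨hzV'₀, ?_⟩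
        show g a z ∈ Y.basicOpen r
        rw [hz]
        exact x.2
      refine ⟨hV'.primeIdealOf ⟨z, hzV'⟩, ?_⟩
      have h1 := IsAffineOpen.comap_primeIdealOf_appLE (Y.basicOpen r) hD _ hV' hV'D (x := z) hzV'
      rw [h1, ← hx]
      show hD.primeIdealOf ⟨g a z, _⟩ = hD.primeIdealOf x
      congr 1
      exact Subtype.ext hz
    exact exists_isBasis_push' (hc a) L hV'D hD hV' (hf _) hφ _ ((ht.mono hV'V'').self) y hyr
  intro y
  obtain ⟨U, e, hyU, he⟩ := key y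
  obtain ⟨φ⟩ := nonempty_iso_of_isBasis he
  exact ⟨U, hyU, ⟨φ ≪≫ coproductUniqueIso
    (fun _ : Fin 1 => Coh.structureModule (U : Scheme.{u}))⟩⟩

/-- **the counit `f^* f_* L ⟶ L` is an isomorphism** (family version). -/
theorem isIso_counit_of_family [QuasiCompact f] [QuasiSeparated f]
    (hf : ∀ V : Y.Opens, Function.Bijective (f.app V))
    (hc : ∀ a, IsPullback (g' a) (f' a) f (g a)) [∀ a, Flat (g a)]
    (hsurj : ∀ y : Y, ∃ a, ∃ y' : Y' a, g a y' = y)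
    (L : X.Modules) (hL : PicF.IsInvertible L)
    (hT : ∀ a (y' : Y' a), ∃ V'' : (Y' a).Opens, y' ∈ V'' ∧
      ∃ t : Γ((Scheme.Modules.pullback (g' a)).obj L, f' a ⁻¹ᵁ V''),
        IsGen ((Scheme.Modules.pullback (g' a)).obj L) (f' a ⁻¹ᵁ V'') t)
    (hM : PicF.IsInvertible ((Scheme.Modules.pushforward f).obj L)) :
    IsIso ((Scheme.Modules.pullbackPushforwardAdjunction f).counit.app L) := by
  haveI : L.IsQuasicoherent := InvCoh.isQuasicoherent_of_isInvertible hL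
  apply PbTensor.isIso_of_isGen_cover
  intro x
  obtain ⟨V, e, hV, hyV, hg⟩ := exists_affine_isGen hM (f x)
  refine ⟨f ⁻¹ᵁ V, pull f _ V e, hyV, isGen_pull f hg, ?_⟩
  have h1 := CounitGG.counit_pull f L V (show Γ(L, f ⁻¹ᵁ V) from e)
  rw [h1]
  apply isGen_of_local
  intro x₁ hx₁
  obtain ⟨a, y', hy'⟩ := hsurj (f x₁)
  obtain ⟨z, hz1, hz2⟩ := Scheme.Pullback.exists_preimage_pullback (f := f) (g := g a) x₁ y' hy'.symm
  obtain ⟨x', hx'def⟩ : ∃ x' : X' a, x' = (hc a).isoPullback.inv z := ⟨_, rfl⟩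
  have hx'1 : g' a x' = x₁ := by
    rw [hx'def, ← hz1, ← Scheme.Hom.comp_apply, (hc a).isoPullback_inv_fst]
  have hx'2 : f' a x' = y' := by
    rw [hx'def, ← hz2, ← Scheme.Hom.comp_apply, (hc a).isoPullback_inv_snd]
  have hy'V : y' ∈ g a ⁻¹ᵁ V := by
    show g a y' ∈ V
    rw [hy']
    exact hx₁
  obtain ⟨V'', hV''mem, t, ht⟩ := hT a y'
  obtain ⟨V', hV', hy'V', hsub⟩ := exists_isAffineOpen_mem_and_subset
    (show y' ∈ V'' ⊓ g a ⁻¹ᵁ V from ⟨hV''mem, hy'V⟩)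
  have hV'V : V' ≤ g a ⁻¹ᵁ V := fun z hz => (hsub hz).2
  have hV'V'' : f' a ⁻¹ᵁ V' ≤ f' a ⁻¹ᵁ V'' := fun z hz => (hsub hz).1
  have hgen := isGen_unitSec_of_isGenAt_push' (hc a) L hV'V hV hV' (hf V) _ (ht.mono hV'V'') e
    hg.self
  have hx'mem : x' ∈ f' a ⁻¹ᵁ V' := by
    show f' a x' ∈ V'
    rw [hx'2]
    exact hy'V'
  obtain ⟨W, hW, hxW, hWgen⟩ := exists_isGen_nhd_of_isGen_pull (g' a) hL
    (show Γ(L, f ⁻¹ᵁ V) from e) (preimage_le_of_isPullback (hc a) hV'V) hgen x' hx'mem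
  exact ⟨W, hW, hx'1 ▸ hxW, hWgen⟩

end Family

/-- An invertible module on `X_T` which, locally for a flat open covering family of `T`, is pulled back
from the base is pulled back from `T` (for `f` qcqs with `O_T ≅ (f_T)_* O_{X_T}`). -/
theorem exists_cl_eq_pullback_of_family {X S : Scheme.{u}} (f : X ⟶ S) [QuasiCompact f]
    [QuasiSeparated f] (T : Over S)
    (hf : ∀ U : T.left.Opens, Function.Bijective ((PicF.XTproj f T).app U))
    (L : (PicF.XT f T).Modules) (hL : PicF.IsInvertible L)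
    {ι : Type*} (W : ι → Scheme.{u}) (g : ∀ a, W a ⟶ T.left) [∀ a, Flat (g a)]
    [∀ a, UniversallyOpen (g a)]
    (hsurj : ∀ y : T.left, ∃ a, ∃ y' : W a, g a y' = y)
    (hloc : ∀ a, ∃ N : (W a).Modules, PicF.IsInvertible N ∧
      PicF.pullCl (PicF.XTmap f (Over.homMk (g a) : Over.mk (g a ≫ T.hom) ⟶ T)) (PicF.cl L) =
        PicF.cl ((Scheme.Modules.pullback (PicF.XTproj f (Over.mk (g a ≫ T.hom)))).obj N)) :
    ∃ N : T.left.Modules, PicF.IsInvertible N ∧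
      PicF.cl L = PicF.cl ((Scheme.Modules.pullback (PicF.XTproj f T)).obj N) := by
  have hc : ∀ a, IsPullback (PicF.XTmap f (Over.homMk (g a) : Over.mk (g a ≫ T.hom) ⟶ T))
      (PicF.XTproj f (Over.mk (g a ≫ T.hom))) (PicF.XTproj f T) (g a) := by
    intro a
    have h1 : PicF.XTmap f (Over.homMk (g a) : Over.mk (g a ≫ T.hom) ⟶ T) ≫
        pullback.fst f T.hom = pullback.fst f (g a ≫ T.hom) := by
      unfold PicF.XTmap
      exact (pullback.lift_fst _ _ _).trans (Category.comp_id _)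
    have h2 : PicF.XTmap f (Over.homMk (g a) : Over.mk (g a ≫ T.hom) ⟶ T) ≫
        pullback.snd f T.hom = pullback.snd f (g a ≫ T.hom) ≫ g a := by
      unfold PicF.XTmap
      exact pullback.lift_snd _ _ _
    refine IsPullback.of_right ?_ h2 (IsPullback.of_hasPullback f T.hom)
    rw [h1]
    exact IsPullback.of_hasPullback f (g a ≫ T.hom)
  have hT : ∀ a (y' : W a), ∃ V'' : (W a).Opens, y' ∈ V'' ∧
      ∃ t : Γ((Scheme.Modules.pullback
          (PicF.XTmap f (Over.homMk (g a) : Over.mk (g a ≫ T.hom) ⟶ T))).obj L,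
          PicF.XTproj f (Over.mk (g a ≫ T.hom)) ⁻¹ᵁ V''),
        IsGen ((Scheme.Modules.pullback
          (PicF.XTmap f (Over.homMk (g a) : Over.mk (g a ≫ T.hom) ⟶ T))).obj L)
          (PicF.XTproj f (Over.mk (g a ≫ T.hom)) ⁻¹ᵁ V'') t := by
    intro a y'
    obtain ⟨N, hN, hcl⟩ := hloc a
    have hcl' : PicF.cl ((Scheme.Modules.pullback
        (PicF.XTmap f (Over.homMk (g a) : Over.mk (g a ≫ T.hom) ⟶ T))).obj L) =
        PicF.cl ((Scheme.Modules.pullback (PicF.XTproj f (Over.mk (g a ≫ T.hom)))).obj N) := hcl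
    obtain ⟨φ⟩ := nonempty_iso_of_cl_eq hcl'
    obtain ⟨V'', n, hy', hgen⟩ := exists_isGen hN y'
    exact ⟨V'', hy', _, isGen_map_iso φ.symm (isGen_pull _ hgen)⟩
  have hopen : ∀ a, IsOpenMap (g a) := fun a => (g a).isOpenMap
  have hM := isInvertible_pushforward_of_family (PicF.XTproj f T) g _ _ hf hc hopen hsurj L hL hT
  haveI := isIso_counit_of_family (PicF.XTproj f T) g _ _ hf hc hsurj L hL hT hM
  exact ⟨_, hM, Quot.sound ⟨(asIso ((Scheme.Modules.pullbackPushforwardAdjunction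
    (PicF.XTproj f T)).counit.app L)).symm⟩⟩

end H16PicFF
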