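import Groth.Agent.Lib.Helper16.PicFF.Main
import Groth.Prelude.Def_ParaF
import Groth.Prelude.Def_FEt
import Mathlib.RingTheory.Flat.FaithfullyFlat.Descent
import Mathlib.RingTheory.KrullDimension.Zero

/-!
# Descent of parafactoriality along flat local homomorphisms with zero dimensional fibre (helper16)
-/

set_option autoImplicit false
universe u
open CategoryTheory CategoryTheory.Limits AlgebraicGeometry Opposite TopologicalSpace

namespace H16ParaDesc

open Groth.Agent.Lib.Helper3 Groth.Agent.Lib.Helper3.PbBasic Groth.Agent.Lib.Helper17.UnitBC H16PicFF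

/-- bijectivity codescends along faithfully flat maps, categorical pushout form. -/
theorem bijective_of_isPushout_faithfullyFlat {R S R' S' : CommRingCat.{u}} {φ : R ⟶ S}
    {ψ : R ⟶ R'} {ψ' : S ⟶ S'} {φ' : R' ⟶ S'} (hpo : IsPushout φ ψ ψ' φ')
    (hψ : ψ.hom.FaithfullyFlat) (hφ' : Function.Bijective φ'.hom) : Function.Bijective φ.hom := by
  letI aRS : Algebra R S := φ.hom.toAlgebra
  letI aRR' : Algebra R R' := ψ.hom.toAlgebra
  letI aSS' : Algebra S S' := ψ'.hom.toAlgebra
  letI aR'S' : Algebra R' S' := φ'.hom.toAlgebra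
  letI aRS' : Algebra R S' := ((algebraMap S S').comp (algebraMap R S)).toAlgebra
  haveI t1 : IsScalarTower R S S' := IsScalarTower.of_algebraMap_eq fun _ => rfl
  haveI t2 : IsScalarTower R R' S' :=
    IsScalarTower.of_algebraMap_eq fun r => congr($(hpo.w).hom r)
  haveI po : Algebra.IsPushout R S R' S' := CommRingCat.isPushout_iff_isPushout.mp hpo
  exact RingHom.FaithfullyFlat.codescendsAlong_bijective (R := R) (S := S) (R' := R') (S' := S')
    hψ hφ'

/-- descent of `O_S(S) ≅ O_X(X)` along faithfully flat affine base change. -/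
theorem bijective_appLE_of_bijective_appLE {X S X' S' : Scheme.{u}} {f : X ⟶ S} {g : S' ⟶ S}
    {g' : X' ⟶ X} {f' : X' ⟶ S'} (hc : IsPullback g' f' f g) [IsAffine S] [IsAffine S']
    [Flat g] [Surjective g] [CompactSpace X] [QuasiSeparatedSpace X]
    (h : Function.Bijective (f'.appLE ⊤ (up g' f' ⊤ ⊤) inf_le_right)) :
    Function.Bijective (f.appLE ⊤ ⊤ le_top) := by
  have hVV : (⊤ : S'.Opens) ≤ g ⁻¹ᵁ ⊤ := le_top
  have hW : (⊤ : X.Opens) ≤ f ⁻¹ᵁ ⊤ := le_top
  have hcpt : IsCompact ((⊤ : X.Opens) : Set X) := isCompact_univ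
  have hqs : IsQuasiSeparated ((⊤ : X.Opens) : Set X) := isQuasiSeparated_univ
  have hpo := (isIso_pushoutSection_iff hc hVV hW rfl).mp
    (isIso_pushoutSection_of_isQuasiSeparated_of_flat_right hc hVV hW rfl (isAffineOpen_top S)
      (isAffineOpen_top S') hcpt hqs)
  have hψ : (g.appLE ⊤ ⊤ hVV).hom.FaithfullyFlat := by
    have h1 := (Flat.flat_and_surjective_iff_faithfullyFlat_of_isAffine (f := g)).mp
      ⟨inferInstance, inferInstance⟩
    have h2 : g.appLE ⊤ ⊤ hVV = g.appTop := by
      rw [Scheme.Hom.appTop, Scheme.Hom.app_eq_appLE]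
      rfl
    rw [h2]
    exact h1
  exact bijective_of_isPushout_faithfullyFlat hpo hψ h

theorem bijective_map_congr' {X : Scheme.{u}} {A B A' B' : X.Opens} (hA : A = A') (hB : B = B')
    (h : A ≤ B) (hb : Function.Bijective (X.presheaf.map (homOfLE h).op)) :
    Function.Bijective (X.presheaf.map (homOfLE (hA ▸ hB ▸ h : A' ≤ B')).op) := by
  subst hA hB
  exact hb

theorem bijective_ι_appLE_iff {X : Scheme.{u}} (U : X.Opens) (W : (U : Scheme.{u}).Opens)
    (hW : W = ⊤) (e : W ≤ U.ι ⁻¹ᵁ ⊤) :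
    Function.Bijective (U.ι.appLE ⊤ W e) ↔
      Function.Bijective (X.presheaf.map (homOfLE (le_top : U ≤ ⊤)).op) := by
  subst hW
  rw [Scheme.Opens.ι_appLE]
  constructor
  · intro h
    exact bijective_map_congr' U.ι_image_top rfl _ h
  · intro h
    exact bijective_map_congr' U.ι_image_top.symm rfl _ h

section Local

variable (A B : Type u) [CommRing A] [CommRing B] [IsLocalRing A] [IsLocalRing B] [Algebra A B]
  [IsLocalHom (algebraMap A B)]

/-- the map of spectra. -/
noncomputable abbrev gmap : Spec (CommRingCat.of B) ⟶ Spec (CommRingCat.of A) :=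
  Spec.map (CommRingCat.ofHom (algebraMap A B))

theorem preimage_punctured
    (hfib : ringKrullDim (B ⧸ (IsLocalRing.maximalIdeal A).map (algebraMap A B)) = 0) :
    (gmap A B) ⁻¹ᵁ (FEt.puncturedSpec A) = FEt.puncturedSpec B := by
  ext q
  show ¬ ((PrimeSpectrum.comap (algebraMap A B) q : PrimeSpectrum A) = IsLocalRing.closedPoint A) ↔
    ¬ ((q : PrimeSpectrum B) = IsLocalRing.closedPoint B)
  rw [not_iff_not]
  constructor
  · intro h
    have hI : (IsLocalRing.maximalIdeal A).map (algebraMap A B) ≤ q.asIdeal := by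
      rw [Ideal.map_le_iff_le_comap]
      have := congrArg PrimeSpectrum.asIdeal h
      exact this.ge
    set I := (IsLocalRing.maximalIdeal A).map (algebraMap A B) with hIdef
    have hIm : I ≤ IsLocalRing.maximalIdeal B :=
      ((IsLocalRing.local_hom_TFAE (algebraMap A B)).out 0 2).mp ‹IsLocalHom (algebraMap A B)›
    haveI : Nontrivial (B ⧸ I) := Ideal.Quotient.nontrivial_iff.mpr
      (ne_top_of_le_ne_top (IsLocalRing.maximalIdeal.isMaximal B).ne_top hIm)
    haveI : Ring.KrullDimLE 0 (B ⧸ I) := ringKrullDimZero_iff_ringKrullDim_eq_zero.mpr hfib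
    haveI : IsLocalRing (B ⧸ I) :=
      IsLocalRing.of_surjective' (Ideal.Quotient.mk I) Ideal.Quotient.mk_surjective
    have hsurj := Ideal.Quotient.mk_surjective (I := I)
    haveI hq1 : (q.asIdeal.map (Ideal.Quotient.mk I)).IsPrime :=
      Ideal.map_isPrime_of_surjective hsurj (by rw [Ideal.mk_ker]; exact hI)
    haveI hq2 : ((IsLocalRing.maximalIdeal B).map (Ideal.Quotient.mk I)).IsPrime :=
      Ideal.map_isPrime_of_surjective hsurj (by rw [Ideal.mk_ker]; exact hIm)
    have e1 := Ring.KrullDimLE.eq_maximalIdeal_of_isPrime (q.asIdeal.map (Ideal.Quotient.mk I))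
    have e2 := Ring.KrullDimLE.eq_maximalIdeal_of_isPrime
      ((IsLocalRing.maximalIdeal B).map (Ideal.Quotient.mk I))
    have e3 : q.asIdeal.map (Ideal.Quotient.mk I) =
        (IsLocalRing.maximalIdeal B).map (Ideal.Quotient.mk I) := e1.trans e2.symm
    have e4 := congrArg (Ideal.comap (Ideal.Quotient.mk I)) e3
    rw [Ideal.comap_map_of_surjective _ hsurj, Ideal.comap_map_of_surjective _ hsurj,
      ← RingHom.ker_eq_comap_bot, Ideal.mk_ker, sup_eq_left.mpr hI, sup_eq_left.mpr hIm] at e4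
    exact PrimeSpectrum.ext e4
  · rintro rfl
    exact IsLocalRing.comap_closedPoint (algebraMap A B)

theorem flat_gmap [Module.Flat A B] : Flat (gmap A B) ∧ Surjective (gmap A B) := by
  rw [flat_and_surjective_SpecMap_iff]
  show (algebraMap A B).FaithfullyFlat
  rw [RingHom.faithfullyFlat_algebraMap_iff]
  exact Module.FaithfullyFlat.of_flat_of_isLocalHom

variable [IsNoetherianRing A]

theorem descent [Module.Flat A B]
    (hfib : ringKrullDim (B ⧸ (IsLocalRing.maximalIdeal A).map (algebraMap A B)) = 0)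
    (hB1 : Function.Bijective ((Spec (CommRingCat.of B)).presheaf.map
      (homOfLE (le_top : FEt.puncturedSpec B ≤ ⊤)).op))
    (hB2 : ParaF.PicTrivial (FEt.puncturedSpec B : Scheme.{u})) :
    Function.Bijective ((Spec (CommRingCat.of A)).presheaf.map
      (homOfLE (le_top : FEt.puncturedSpec A ≤ ⊤)).op) ∧
    ParaF.PicTrivial (FEt.puncturedSpec A : Scheme.{u}) := by
  set U := FEt.puncturedSpec A with hU
  set g := gmap A B with hg
  haveI : Flat g := (flat_gmap A B).1
  haveI : Surjective g := (flat_gmap A B).2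
  have key : ∀ U' : (Spec (CommRingCat.of B)).Opens, U' = FEt.puncturedSpec B →
      Function.Bijective ((Spec (CommRingCat.of B)).presheaf.map
        (homOfLE (le_top : U' ≤ ⊤)).op) ∧ ParaF.PicTrivial (U' : Scheme.{u}) := by
    rintro _ rfl
    exact ⟨hB1, hB2⟩
  obtain ⟨hB1', hB2'⟩ := key _ (preimage_punctured A B hfib)
  haveI : IsNoetherianRing (CommRingCat.of A) := ‹IsNoetherianRing A›
  haveI hN : NoetherianSpace ↥(U : Scheme.{u}) :=
    (inferInstance : NoetherianSpace ((U : Set (Spec (CommRingCat.of A)))))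
  haveI : CompactSpace ↥(U : Scheme.{u}) := inferInstance
  haveI : QuasiSeparatedSpace ↥(U : Scheme.{u}) := inferInstance
  have hc := isPullback_morphismRestrict g U
  have hup : up (g ∣_ U) (g ⁻¹ᵁ U).ι ⊤ ⊤ = ⊤ := top_le_iff.mp (fun x _ => ⟨trivial, trivial⟩)
  have hb : Function.Bijective (U.ι.appLE ⊤ ⊤ le_top) :=
    bijective_appLE_of_bijective_appLE hc ((bijective_ι_appLE_iff _ _ hup _).mpr hB1')
  refine ⟨(bijective_ι_appLE_iff U ⊤ rfl _).mp hb, fun L hL => ?_⟩
  have hsl : Finite (MaximalSpectrum Γ((U : Scheme.{u}), ⊤)) := by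
    let e1 : Γ(Spec (CommRingCat.of A), ⊤) ≃+* Γ((U : Scheme.{u}), ⊤) :=
      RingEquiv.ofBijective (U.ι.appLE ⊤ ⊤ le_top).hom hb
    let e0 : Γ(Spec (CommRingCat.of A), ⊤) ≃+* A :=
      (Scheme.ΓSpecIso (CommRingCat.of A)).commRingCatIsoToRingEquiv
    haveI : IsLocalRing Γ((U : Scheme.{u}), ⊤) := (e0.symm.trans e1).isLocalRing
    infer_instance
  obtain ⟨t⟩ := hB2' ((Scheme.Modules.pullback (g ∣_ U)).obj L) (isInvertible_pullback _ hL)
  exact trivial_of_trivial_pullback hc hsl L hL ⟨t⟩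

end Local

end H16ParaDesc
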