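import Groth.Agent.Lib.Helper16.PicFF.PushInv
import Groth.Agent.Lib.Helper16.PicFF.ParaDesc

/-!
# Quasi-compact faithfully flat descent of `O_Y ≅ f_* O_X` and of invertibility of `f_* L` (helper16)

* `bijective_app_of_flat_descent`: for a pullback square with `f` qcqs and `g` flat, surjective and
  quasi-compact, `O_{Y'} ≅ f'_* O_{X'}` implies `O_Y ≅ f_* O_X`.
* `isInvertible_pushforward_of_isPullback`: general pullback square version of
  `isInvertible_pushforward_of_locally_trivial_pullback`.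
* `paraf_descent`: descent of the two conditions characterising parafactorial pairs.
-/

set_option autoImplicit false
universe u
open CategoryTheory CategoryTheory.Limits AlgebraicGeometry Opposite TopologicalSpace

namespace H16PicFF

open Groth.Agent.Lib.Helper3 Groth.Agent.Lib.Helper3.QCSec Groth.Agent.Lib.Helper3.PbBasic
  Groth.Agent.Lib.Helper3.InvGen Groth.Agent.Lib.Helper17.UnitBC
  Groth.Agent.Lib.Helper3.FreeBasis Groth.Agent.Lib.Helper3.SecLoc

section Desc

variable {X Y X' Y' : Scheme.{u}} {f : X ⟶ Y} {g : Y' ⟶ Y} {g' : X' ⟶ X} {f' : X' ⟶ Y'}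

/-- converse of `bijective_app_of_bijective_app` along a faithfully flat map of affines. -/
theorem bijective_app_of_bijective_app_of_faithfullyFlat (hc : IsPullback g' f' f g)
    [QuasiCompact f] [QuasiSeparated f] [Flat g] {V : Y.Opens} {V' : Y'.Opens}
    (hV'V : V' ≤ g ⁻¹ᵁ V) (hV : IsAffineOpen V) (hV' : IsAffineOpen V')
    (hφ : (g.appLE V V' hV'V).hom.FaithfullyFlat)
    (hf' : Function.Bijective (f'.app V')) : Function.Bijective (f.app V) := by
  have hWc : IsCompact ((f ⁻¹ᵁ V : X.Opens) : Set X) := f.isCompact_preimage hV.isCompact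
  have hWqs : IsQuasiSeparated ((f ⁻¹ᵁ V : X.Opens) : Set X) :=
    f.isQuasiSeparated_preimage hV.isQuasiSeparated
  have hpo := (isIso_pushoutSection_iff hc hV'V (le_refl (f ⁻¹ᵁ V)) rfl).mp
    (isIso_pushoutSection_of_isQuasiSeparated_of_flat_right hc hV'V (le_refl (f ⁻¹ᵁ V)) rfl hV hV'
      hWc hWqs)
  have hW : f' ⁻¹ᵁ V' ≤ g' ⁻¹ᵁ (f ⁻¹ᵁ V) := preimage_le_of_isPullback hc hV'V
  have hup : g' ⁻¹ᵁ (f ⁻¹ᵁ V) ⊓ f' ⁻¹ᵁ V' = f' ⁻¹ᵁ V' := inf_eq_right.mpr hW
  have key : ∀ (U'' : X'.Opens) (_ : U'' = f' ⁻¹ᵁ V') (e : U'' ≤ f' ⁻¹ᵁ V'),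
      Function.Bijective (f'.appLE V' U'' e) := by
    intro U'' h e
    subst h
    rw [← Scheme.Hom.app_eq_appLE]
    exact hf'
  have h1 := H16ParaDesc.bijective_of_isPushout_faithfullyFlat hpo hφ (key _ hup _)
  rw [← Scheme.Hom.app_eq_appLE] at h1
  exact h1

end Desc

/-- if `O_Y ⟶ f_* O_X` is an isomorphism then `f.app V` is bijective for all opens `V`. -/
theorem bijective_app_of_isIso_unitPush {X Y : Scheme.{u}} (f : X ⟶ Y)
    (h : IsIso ((Scheme.Modules.pullbackPushforwardAdjunction f).unit.app (Coh.structureModule Y) ≫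
      (Scheme.Modules.pushforward f).map (pbUnitHom f))) (V : Y.Opens) :
    Function.Bijective (f.app V) := by
  haveI := h
  have hb : Function.Bijective
      (((Scheme.Modules.pullbackPushforwardAdjunction f).unit.app (Coh.structureModule Y) ≫
        (Scheme.Modules.pushforward f).map (pbUnitHom f)).app V) :=
    (ConcreteCategory.isIso_iff_bijective _).mp inferInstance
  have hfun : ∀ a : Γ(Y, V),
      ((Scheme.Modules.pullbackPushforwardAdjunction f).unit.app (Coh.structureModule Y) ≫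
        (Scheme.Modules.pushforward f).map (pbUnitHom f)).app V (ofFun V a) =
      ofFun (f ⁻¹ᵁ V) ((f.app V) a) := fun a => pbUnitHom_pull f V a
  constructor
  · intro a b hab
    apply ofFun_injective V
    apply hb.1
    rw [hfun, hfun, hab]
  · intro c
    obtain ⟨a, ha⟩ := hb.2 (ofFun (f ⁻¹ᵁ V) c)
    refine ⟨toFun V a, ?_⟩
    have h2 := hfun (toFun V a)
    have h3 : ofFun V (toFun V a) = a := rfl
    rw [h3, ha] at h2
    exact (ofFun_injective _ h2).symm

/-- `O_Y ⟶ f_* O_X` is an isomorphism as soon as it is bijective over affine opens. -/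
theorem isIso_unitPush_of_bijective_on_affines {X Y : Scheme.{u}} (f : X ⟶ Y) [QuasiCompact f]
    [QuasiSeparated f] (hf : ∀ V : Y.Opens, IsAffineOpen V → Function.Bijective (f.app V)) :
    IsIso ((Scheme.Modules.pullbackPushforwardAdjunction f).unit.app (Coh.structureModule Y) ≫
      (Scheme.Modules.pushforward f).map (pbUnitHom f)) := by
  haveI : (Coh.structureModule X).IsQuasicoherent := QCOpen.isQuasicoherent_structureModule X
  haveI : ((Scheme.Modules.pushforward f).obj (Coh.structureModule X)).IsQuasicoherent :=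
    QCSec.isQuasicoherent_pushforward f _
  apply isIso_of_bijective_on_basis
  intro W y hy
  obtain ⟨V, hV, hyV, hsub⟩ := exists_isAffineOpen_mem_and_subset hy
  refine ⟨V, hV, hyV, fun z hz => hsub hz, ?_⟩
  have hb := hf V hV
  have hfun : ∀ a : Γ(Y, V),
      ((Scheme.Modules.pullbackPushforwardAdjunction f).unit.app (Coh.structureModule Y) ≫
        (Scheme.Modules.pushforward f).map (pbUnitHom f)).app V (ofFun V a) =
      ofFun (f ⁻¹ᵁ V) ((f.app V) a) := fun a => pbUnitHom_pull f V a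
  constructor
  · intro a b hab
    exact hb.1 ((hfun a).symm.trans (hab.trans (hfun b)))
  · intro c
    obtain ⟨a, ha⟩ := hb.2 c
    exact ⟨a, (hfun a).trans ha⟩

section Desc2

variable {X Y X' Y' : Scheme.{u}} {f : X ⟶ Y} {g : Y' ⟶ Y} {g' : X' ⟶ X} {f' : X' ⟶ Y'}

/-- **fpqc descent of `O_Y ≅ f_* O_X`.** -/
theorem bijective_app_of_flat_descent (hc : IsPullback g' f' f g) [QuasiCompact f]
    [QuasiSeparated f] [Flat g] [Surjective g] [QuasiCompact g]
    (hf' : ∀ V' : Y'.Opens, Function.Bijective (f'.app V')) (V : Y.Opens) :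
    Function.Bijective (f.app V) := by
  haveI : QuasiCompact f' := MorphismProperty.of_isPullback hc (inferInstance : QuasiCompact f)
  haveI : QuasiSeparated f' :=
    MorphismProperty.of_isPullback hc (inferInstance : QuasiSeparated f)
  have haff : ∀ V : Y.Opens, IsAffineOpen V → Function.Bijective (f.app V) := by
    intro V hV
    haveI : CompactSpace ↥((g ⁻¹ᵁ V : Y'.Opens) : Scheme.{u}) :=
      isCompact_iff_compactSpace.mp (g.isCompact_preimage hV.isCompact)
    obtain ⟨W, q, hqs, hqf, hW⟩ :=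
      Scheme.exists_hom_isAffine_of_isZariskiLocalAtSource @Flat ((g ⁻¹ᵁ V : Y'.Opens) : Scheme.{u})
    haveI := hqs
    haveI := hqf
    haveI := hW
    let h : W ⟶ Y' := q ≫ (g ⁻¹ᵁ V).ι
    let p : W ⟶ Y := h ≫ g
    haveI : Flat h := by
      dsimp only [h]
      infer_instance
    haveI : Flat p := by
      dsimp only [p, h]
      infer_instance
    have hc₁ := IsPullback.of_hasPullback f' h
    have hiso := isIso_unitPush hc₁ hf'
    have hb₁ : Function.Bijective ((pullback.snd f' h).app ⊤) :=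
      bijective_app_of_isIso_unitPush _ hiso ⊤
    have hbig : IsPullback (pullback.fst f' h ≫ g') (pullback.snd f' h) f p := hc₁.paste_horiz hc
    have hpw : ∀ w : W, p w = g ((g ⁻¹ᵁ V).ι (q w)) := fun w => rfl
    have hV'V : (⊤ : W.Opens) ≤ p ⁻¹ᵁ V := by
      intro w _
      show p w ∈ V
      rw [hpw]
      exact (q w).2
    have hφ : (p.appLE V ⊤ hV'V).hom.FaithfullyFlat := by
      rw [RingHom.FaithfullyFlat.iff_flat_and_comap_surjective]
      refine ⟨p.flat_appLE hV (isAffineOpen_top W) hV'V, ?_⟩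
      intro 𝔭
      obtain ⟨x, hx⟩ := hV.isoSpec.hom.homeomorph.surjective 𝔭
      obtain ⟨y', hy'⟩ := g.surjective x.1
      have hy'V : y' ∈ g ⁻¹ᵁ V := by
        show g y' ∈ V
        rw [hy']
        exact x.2
      obtain ⟨w, hw⟩ := q.surjective ⟨y', hy'V⟩
      refine ⟨(isAffineOpen_top W).primeIdealOf ⟨w, trivial⟩, ?_⟩
      have h1 := IsAffineOpen.comap_primeIdealOf_appLE V hV ⊤ (isAffineOpen_top W) hV'V
        (x := w) trivial
      rw [h1, ← hx]
      have hpx : p w = x.1 := by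
        rw [hpw, hw]
        exact hy'
      show hV.primeIdealOf ⟨p w, _⟩ = hV.primeIdealOf x
      congr 1
      exact Subtype.ext hpx
    exact bijective_app_of_bijective_app_of_faithfullyFlat hbig hV'V hV (isAffineOpen_top W) hφ hb₁
  exact bijective_app_of_isIso_unitPush f (isIso_unitPush_of_bijective_on_affines f haff) V

/-- general pullback square version of `isInvertible_pushforward_of_locally_trivial_pullback`. -/
theorem isInvertible_pushforward_of_isPullback (hc : IsPullback g' f' f g) [QuasiCompact f]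
    [QuasiSeparated f] (hf : ∀ V : Y.Opens, Function.Bijective (f.app V))
    [Flat g] [Surjective g] [QuasiCompact g] (L : X.Modules) (hL : PicF.IsInvertible L)
    (hT : ∀ y' : Y', ∃ V'' : Y'.Opens, y' ∈ V'' ∧
      ∃ t : Γ((Scheme.Modules.pullback g').obj L, f' ⁻¹ᵁ V''),
        IsGen ((Scheme.Modules.pullback g').obj L) (f' ⁻¹ᵁ V'') t) :
    PicF.IsInvertible ((Scheme.Modules.pushforward f).obj L) := by
  apply isInvertible_pushforward_of_locally_trivial_pullback f hf g L hL
  intro y'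
  obtain ⟨V'', hy', t, ht⟩ := hT y'
  refine ⟨V'', hy', ?_⟩
  have hk1 : hc.isoPullback.inv ≫ g' = pullback.fst f g := hc.isoPullback_inv_fst
  have hk2 : hc.isoPullback.inv ≫ f' = pullback.snd f g := hc.isoPullback_inv_snd
  have h1 := isGen_pull hc.isoPullback.inv ht
  have h2 := isGen_map_iso
    ((Scheme.Modules.pullbackComp hc.isoPullback.inv g').app L ≪≫
      (Scheme.Modules.pullbackCongr hk1).app L) h1
  have hle : pullback.snd f g ⁻¹ᵁ V'' ≤ hc.isoPullback.inv ⁻¹ᵁ (f' ⁻¹ᵁ V'') := by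
    intro z hz
    show f' (hc.isoPullback.inv z) ∈ V''
    rw [← Scheme.Hom.comp_apply, hk2]
    exact hz
  exact ⟨_, h2.mono hle⟩

end Desc2

/-- for an open immersion `f` with `O_Y ≅ f_* O_X`, a generator of `f_* N` is a generator of `N`. -/
theorem isGen_of_isGen_pushforward {X Y : Scheme.{u}} (f : X ⟶ Y) [IsOpenImmersion f]
    (hf : ∀ V : Y.Opens, Function.Bijective (f.app V)) (N : X.Modules) (V : Y.Opens)
    (m : Γ((Scheme.Modules.pushforward f).obj N, V))
    (hm : IsGen ((Scheme.Modules.pushforward f).obj N) V m) :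
    IsGen N (f ⁻¹ᵁ V) (show Γ(N, f ⁻¹ᵁ V) from m) := by
  intro W hW
  have hV₁ : f ''ᵁ W ≤ V := by
    rintro _ ⟨w, hw, rfl⟩
    exact hW hw
  have hpre : f ⁻¹ᵁ (f ''ᵁ W) = W := f.preimage_image_eq W
  have key : ∀ (W' : X.Opens) (_ : f ⁻¹ᵁ (f ''ᵁ W) = W') (hle : W' ≤ f ⁻¹ᵁ V),
      IsGenAt N W' (res N hle (show Γ(N, f ⁻¹ᵁ V) from m)) := by
    rintro _ rfl hle
    exact (bijective_smul_push_iff f N (f ''ᵁ W) (hf _) _).mp (hm (f ''ᵁ W) hV₁)
  exact key W hpre hW

theorem bijective_ι_app_iff {X : Scheme.{u}} (U V : X.Opens) :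
    Function.Bijective (U.ι.app V) ↔
      Function.Bijective (X.presheaf.map (homOfLE (inf_le_left : V ⊓ U ≤ V)).op) := by
  rw [Scheme.Opens.ι_app]
  have hA : U.ι ''ᵁ U.ι ⁻¹ᵁ V = V ⊓ U := by
    rw [Scheme.Hom.image_preimage_eq_opensRange_inf, Scheme.Opens.opensRange_ι, inf_comm]
  constructor
  · intro h
    exact H16ParaDesc.bijective_map_congr' hA rfl _ h
  · intro h
    exact H16ParaDesc.bijective_map_congr' hA.symm rfl _ h

theorem bijective_homOfLE_app {X : Scheme.{u}} {U : X.Opens}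
    (hA : ∀ V : X.Opens,
      Function.Bijective (X.presheaf.map (homOfLE (inf_le_left : V ⊓ U ≤ V)).op))
    (V : X.Opens) (V₁ : (V : Scheme.{u}).Opens) :
    Function.Bijective ((X.homOfLE (inf_le_left : V ⊓ U ≤ V)).app V₁) := by
  rw [Scheme.homOfLE_app]
  have hAeq : V.ι ''ᵁ V₁ ⊓ U =
      (V ⊓ U).ι ''ᵁ (X.homOfLE (inf_le_left : V ⊓ U ≤ V) ⁻¹ᵁ V₁) := by
    rw [Scheme.ι_image_homOfLE_eq_ι_image_inf, ← inf_assoc, inf_eq_left.mpr (V.ι_image_le V₁)]
  exact H16ParaDesc.bijective_map_congr' hAeq rfl _ (hA (V.ι ''ᵁ V₁))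

theorem isPullback_homOfLE_morphismRestrict {X X' : Scheme.{u}} (f : X' ⟶ X) (V U : X.Opens)
    (hle : f ⁻¹ᵁ V ⊓ f ⁻¹ᵁ U ≤ f ⁻¹ᵁ (V ⊓ U)) :
    IsPullback (f.resLE (V ⊓ U) (f ⁻¹ᵁ V ⊓ f ⁻¹ᵁ U) hle)
      (X'.homOfLE (inf_le_left : f ⁻¹ᵁ V ⊓ f ⁻¹ᵁ U ≤ f ⁻¹ᵁ V))
      (X.homOfLE (inf_le_left : V ⊓ U ≤ V)) (f ∣_ V) := by
  apply IsOpenImmersion.isPullback
  · simp [← cancel_mono V.ι]
  · rw [Scheme.opensRange_homOfLE, Scheme.opensRange_homOfLE, ← Scheme.Hom.comp_preimage,
      morphismRestrict_ι, Scheme.Hom.comp_preimage]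
    rfl

/-- **descent of the two conditions characterising parafactorial pairs** along a flat, surjective,
quasi-compact morphism. -/
theorem paraf_descent {X X' : Scheme.{u}} (f : X' ⟶ X) [QuasiCompact f] [Flat f] [Surjective f]
    (U : X.Opens) (hU : QuasiCompact (X.homOfLE (le_top : U ≤ ⊤))) (U' : X'.Opens)
    (hU' : U' = f ⁻¹ᵁ U)
    (hA' : ∀ V' : X'.Opens,
      Function.Bijective (X'.presheaf.map (homOfLE (inf_le_left : V' ⊓ U' ≤ V')).op))
    (hB' : ∀ (V' : X'.Opens) (L' : ((V' ⊓ U' : X'.Opens) : Scheme.{u}).Modules),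
      PicF.IsInvertible L' → PicF.IsInvertible
        ((Scheme.Modules.pushforward (X'.homOfLE (inf_le_left : V' ⊓ U' ≤ V'))).obj L')) :
    (∀ V : X.Opens,
      Function.Bijective (X.presheaf.map (homOfLE (inf_le_left : V ⊓ U ≤ V)).op)) ∧
    ∀ (V : X.Opens) (L : ((V ⊓ U : X.Opens) : Scheme.{u}).Modules), PicF.IsInvertible L →
      PicF.IsInvertible
        ((Scheme.Modules.pushforward (X.homOfLE (inf_le_left : V ⊓ U ≤ V))).obj L) := by
  subst hU'
  haveI hqcU : QuasiCompact U.ι := by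
    haveI := hU
    haveI : IsIso (⊤ : X.Opens).ι := inferInstanceAs (IsIso X.topIso.hom)
    rw [← X.homOfLE_ι (le_top : U ≤ ⊤)]
    infer_instance
  have hf' : ∀ V' : X'.Opens, Function.Bijective ((f ⁻¹ᵁ U).ι.app V') :=
    fun V' => (bijective_ι_app_iff _ V').mpr (hA' V')
  have hAι : ∀ V : X.Opens, Function.Bijective (U.ι.app V) :=
    bijective_app_of_flat_descent (isPullback_morphismRestrict f U) hf'
  have hA : ∀ V : X.Opens,
      Function.Bijective (X.presheaf.map (homOfLE (inf_le_left : V ⊓ U ≤ V)).op) :=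
    fun V => (bijective_ι_app_iff U V).mp (hAι V)
  refine ⟨hA, fun V L hL => ?_⟩
  have hle : f ⁻¹ᵁ V ⊓ f ⁻¹ᵁ U ≤ f ⁻¹ᵁ (V ⊓ U) := fun x hx => ⟨hx.1, hx.2⟩
  have hc := isPullback_homOfLE_morphismRestrict f V U hle
  haveI : QuasiCompact (X.homOfLE (inf_le_left : V ⊓ U ≤ V)) :=
    MorphismProperty.of_isPullback (isPullback_opens_inf V U).flip hqcU
  haveI : Flat (f ∣_ V) :=
    MorphismProperty.of_isPullback (isPullback_morphismRestrict f V).flip (inferInstance : Flat f)
  haveI : Surjective (f ∣_ V) :=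
    MorphismProperty.of_isPullback (isPullback_morphismRestrict f V).flip
      (inferInstance : Surjective f)
  haveI : QuasiCompact (f ∣_ V) :=
    MorphismProperty.of_isPullback (isPullback_morphismRestrict f V).flip
      (inferInstance : QuasiCompact f)
  have hL' := isInvertible_pullback (f.resLE (V ⊓ U) (f ⁻¹ᵁ V ⊓ f ⁻¹ᵁ U) hle) hL
  have hM' := hB' (f ⁻¹ᵁ V) _ hL'
  refine isInvertible_pushforward_of_isPullback hc (bijective_homOfLE_app hA V) L hL ?_
  intro y'
  obtain ⟨V'', ℓ, hy', hℓ⟩ := exists_isGen hM' y'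
  exact ⟨V'', hy', _, isGen_of_isGen_pushforward _ (bijective_homOfLE_app hA' (f ⁻¹ᵁ V)) _ V'' ℓ hℓ⟩

end H16PicFF
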