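import Mathlib

/-!
# Faithfully flat descent of rank-one freeness over a semilocal ring (helper16)
-/

set_option autoImplicit false
universe u
open TensorProduct Module

namespace H16PicFF

/-- A module over a semilocal ring which becomes free of rank one after a faithfully flat base
change is free of rank one. -/
theorem exists_generator_of_tensor_equiv {R R' : Type u} [CommRing R] [CommRing R'] [Algebra R R']
    [Module.FaithfullyFlat R R'] [Finite (MaximalSpectrum R)]
    (M : Type u) [AddCommGroup M] [Module R M] (e : R' ⊗[R] M ≃ₗ[R'] R') :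
    ∃ σ : M, Function.Bijective (fun r : R => r • σ) := by
  haveI : Module.Finite R' (R' ⊗[R] M) := Module.Finite.equiv e.symm
  haveI : Module.Finite R M := Module.Finite.of_finite_tensorProduct_of_faithfullyFlat R'
  haveI : Module.Flat R' (R' ⊗[R] M) := Module.Flat.of_linearEquiv e
  haveI : Module.Flat R M := Module.Flat.of_flat_tensorProduct R M R'
  have rk : ∀ P : MaximalSpectrum R, Module.finrank (R ⧸ P.1) ((R ⧸ P.1) ⊗[R] M) = 1 := by
    intro P
    haveI := P.2
    haveI hPprime : P.1.IsPrime := P.2.isPrime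
    letI := Ideal.Quotient.field P.1
    obtain ⟨𝔮, h𝔮⟩ := PrimeSpectrum.comap_surjective_of_faithfullyFlat (A := R) (B := R')
      ⟨P.1, hPprime⟩
    haveI : Nontrivial R' := by
      refine ⟨⟨0, 1, fun h => 𝔮.2.ne_top ?_⟩⟩
      rw [Ideal.eq_top_iff_one, ← h]
      exact 𝔮.asIdeal.zero_mem
    have h1 : Module.rankAtStalk M ⟨P.1, hPprime⟩ = 1 := by
      rw [← h𝔮, ← Module.rankAtStalk_baseChange (M := M) 𝔮, Module.rankAtStalk_eq_of_equiv e,
        Module.rankAtStalk_self]
      rfl
    have h2 := Module.rankAtStalk_eq (M := M) ⟨P.1, hPprime⟩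
    let e2 : P.1.ResidueField ⊗[R ⧸ P.1] ((R ⧸ P.1) ⊗[R] M) ≃ₗ[P.1.ResidueField]
        P.1.ResidueField ⊗[R] M :=
      AlgebraTensorModule.cancelBaseChange R (R ⧸ P.1) P.1.ResidueField P.1.ResidueField M
    have h3 : Module.finrank P.1.ResidueField
        (P.1.ResidueField ⊗[R ⧸ P.1] ((R ⧸ P.1) ⊗[R] M)) =
        Module.finrank (R ⧸ P.1) ((R ⧸ P.1) ⊗[R] M) := Module.finrank_baseChange
    rw [← h3, e2.finrank_eq]
    exact h2.symm.trans h1
  obtain ⟨b⟩ := Module.nonempty_basis_of_flat_of_finrank_eq R M 1 rk
  refine ⟨b 0, ?_, ?_⟩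
  · intro r r' h
    have h2 := congrArg (fun m => b.repr m 0) h
    simpa using h2
  · intro m
    refine ⟨b.repr m 0, ?_⟩
    have h := b.sum_repr m
    rw [Fin.sum_univ_one] at h
    exact h

/-- base change along the other side of a pushout square. -/
theorem isBaseChange_of_isPushout' {R₀ R S₀ S : Type*} [CommRing R₀] [CommRing R] [CommRing S₀]
    [CommRing S] [Algebra R₀ R] [Algebra R₀ S₀] [Algebra R₀ S] [Algebra S₀ S] [Algebra R S]
    [IsScalarTower R₀ S₀ S] [IsScalarTower R₀ R S] [Algebra.IsPushout R₀ R S₀ S]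
    {M₀ M : Type*} [AddCommGroup M₀] [AddCommGroup M] [Module R₀ M₀] [Module S₀ M₀]
    [IsScalarTower R₀ S₀ M₀]
    [Module S₀ M] [Module S M] [IsScalarTower S₀ S M] [Module R₀ M] [Module R M]
    [IsScalarTower R₀ S₀ M] [IsScalarTower R S M] [IsScalarTower R₀ R M]
    (f : M₀ →ₗ[S₀] M) (hf : IsBaseChange R (f.restrictScalars R₀)) : IsBaseChange S f := by
  have hcomp : ∀ t : R ⊗[R₀] M₀, f.liftBaseChange S
      ((Algebra.IsPushout.cancelBaseChange R₀ R S₀ S M₀).symm t) = hf.equiv t := by
    intro t
    induction t with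
    | zero => simp
    | add x y hx hy => rw [map_add, map_add, hx, hy, map_add]
    | tmul r m =>
      rw [Algebra.IsPushout.cancelBaseChange_symm_tmul, LinearMap.liftBaseChange_tmul,
        hf.equiv_tmul, algebraMap_smul]
      rfl
  have hbij : Function.Bijective (f.liftBaseChange S) := by
    have : (f.liftBaseChange S : S ⊗[S₀] M₀ → M) =
        hf.equiv ∘ (Algebra.IsPushout.cancelBaseChange R₀ R S₀ S M₀) := by
      funext t
      rw [Function.comp_apply, ← hcomp, LinearEquiv.symm_apply_apply]
    rw [this]
    exact hf.equiv.bijective.comp (Algebra.IsPushout.cancelBaseChange R₀ R S₀ S M₀).bijective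
  exact IsBaseChange.of_equiv (LinearEquiv.ofBijective (f.liftBaseChange S) hbij)
    (fun m => by simp)

/-- Typeclass form: a semilinear base change over a pushout square with a free rank one target
has a free rank one source, and the image of the generator is a generator. -/
theorem exists_generator_of_isPushout {A B R R' : Type u} [CommRing A] [CommRing B] [CommRing R]
    [CommRing R'] [Algebra A B] [Algebra A R] [Algebra A R'] [Algebra R R'] [Algebra B R']
    [IsScalarTower A R R'] [IsScalarTower A B R'] [Algebra.IsPushout A B R R']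
    [Module.FaithfullyFlat A B] [Finite (MaximalSpectrum R)]
    {M M' : Type u} [AddCommGroup M] [AddCommGroup M'] [Module A M] [Module R M]
    [IsScalarTower A R M]
    [Module R M'] [Module R' M'] [IsScalarTower R R' M'] [Module A M'] [Module B M']
    [IsScalarTower A R M'] [IsScalarTower B R' M'] [IsScalarTower A B M']
    (f : M →ₗ[R] M') (hf : IsBaseChange B (f.restrictScalars A)) (e' : M')
    (he' : Function.Bijective (fun r' : R' => r' • e')) :
    ∃ σ : M, Function.Bijective (fun r : R => r • σ) ∧
      Function.Bijective (fun r' : R' => r' • f σ) := by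
  have hfR : IsBaseChange R' f := isBaseChange_of_isPushout' f hf
  haveI : Module.FaithfullyFlat R R' := by
    have h1 : (algebraMap A B).FaithfullyFlat := RingHom.faithfullyFlat_algebraMap_iff.mpr inferInstance
    have h2 := RingHom.FaithfullyFlat.isStableUnderBaseChange A B R R' h1
    exact RingHom.faithfullyFlat_algebraMap_iff.mp h2
  let E₁ : R' ≃ₗ[R'] M' := LinearEquiv.ofBijective (LinearMap.toSpanSingleton R' M' e') he'
  obtain ⟨σ, hσ⟩ := exists_generator_of_tensor_equiv (R := R) (R' := R') M
    (hfR.equiv ≪≫ₗ E₁.symm)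
  refine ⟨σ, hσ, ?_⟩
  let b : R ≃ₗ[R] M := LinearEquiv.ofBijective (LinearMap.toSpanSingleton R M σ) hσ
  have hcomp : (fun r' : R' => r' • f σ) =
      hfR.equiv ∘ (LinearEquiv.lTensor R' b) ∘ (TensorProduct.rid R R').symm := by
    funext r'
    simp only [Function.comp_apply, TensorProduct.rid_symm_apply, LinearEquiv.lTensor_tmul]
    rw [hfR.equiv_tmul]
    simp [b]
  rw [hcomp]
  exact hfR.equiv.bijective.comp ((LinearEquiv.lTensor R' b).bijective.comp
    (TensorProduct.rid R R').symm.bijective)


/-- A module which becomes free of rank one after a faithfully flat base change is locally free of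
rank one. -/
theorem exists_away_free_of_tensor_equiv {A B : Type u} [CommRing A] [CommRing B] [Algebra A B]
    [Module.FaithfullyFlat A B] (N : Type u) [AddCommGroup N] [Module A N]
    (e : B ⊗[A] N ≃ₗ[B] B) (𝔭 : Ideal A) [𝔭.IsPrime] :
    ∃ a ∉ 𝔭, Nontrivial (Localization.Away a) ∧
      Module.Free (Localization.Away a) (LocalizedModule.Away a N) ∧
      Module.Finite (Localization.Away a) (LocalizedModule.Away a N) ∧
      Module.finrank (Localization.Away a) (LocalizedModule.Away a N) = 1 := by
  haveI : Module.Finite B (B ⊗[A] N) := Module.Finite.equiv e.symm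
  haveI : Module.Finite A N := Module.Finite.of_finite_tensorProduct_of_faithfullyFlat B
  haveI : Module.Flat B (B ⊗[A] N) := Module.Flat.of_linearEquiv e
  haveI : Module.Flat A N := Module.Flat.of_flat_tensorProduct A N B
  have hrk : ∀ P : PrimeSpectrum A, Module.rankAtStalk N P = 1 := by
    intro P
    obtain ⟨𝔮, h𝔮⟩ := PrimeSpectrum.comap_surjective_of_faithfullyFlat (A := A) (B := B) P
    haveI : Nontrivial B := by
      refine ⟨⟨0, 1, fun h => 𝔮.2.ne_top ?_⟩⟩
      rw [Ideal.eq_top_iff_one, ← h]
      exact 𝔮.asIdeal.zero_mem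
    rw [← h𝔮, ← Module.rankAtStalk_baseChange (M := N) 𝔮, Module.rankAtStalk_eq_of_equiv e,
      Module.rankAtStalk_self]
    rfl
  obtain ⟨a, ha, hfree⟩ := Module.Free.away_of_finite_of_flat_of_rankAtStalk_constant N 𝔭
    (fun m _ => by rw [hrk, hrk])
  haveI hnt : Nontrivial (Localization.Away a) :=
    (show Localization (Submonoid.powers a) →+* Localization.AtPrime 𝔭 from
      IsLocalization.map (M := Submonoid.powers a) (T := 𝔭.primeCompl) _ (RingHom.id _)
        (Submonoid.powers_le.mpr ha)).domain_nontrivial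
  have hfin : Module.Finite (Localization.Away a) (LocalizedModule.Away a N) :=
    Module.Finite.of_isLocalizedModule (Submonoid.powers a)
      (LocalizedModule.mkLinearMap (Submonoid.powers a) N)
  refine ⟨a, ha, hnt, hfree, hfin, ?_⟩
  obtain ⟨q⟩ : Nonempty (PrimeSpectrum (Localization.Away a)) := inferInstance
  have h1 := Module.rankAtStalk_isBaseChange
    (LocalizedModule.isBaseChange (Submonoid.powers a) N) q
  have h2 := congrFun (Module.rankAtStalk_eq_finrank_of_free (R := Localization.Away a)
    (M := LocalizedModule.Away a N)) q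
  rw [h1, hrk] at h2
  exact h2.symm

theorem exists_away_free_of_isBaseChange {A B : Type u} [CommRing A] [CommRing B] [Algebra A B]
    [Module.FaithfullyFlat A B] {N N' : Type u} [AddCommGroup N] [Module A N] [AddCommGroup N']
    [Module A N'] [Module B N'] [IsScalarTower A B N'] (lin : N →ₗ[A] N')
    (hbc : IsBaseChange B lin) (t : N') (ht : Function.Bijective (fun b : B => b • t))
    (𝔭 : Ideal A) [𝔭.IsPrime] :
    ∃ a ∉ 𝔭, Nontrivial (Localization.Away a) ∧
      Module.Free (Localization.Away a) (LocalizedModule.Away a N) ∧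
      Module.Finite (Localization.Away a) (LocalizedModule.Away a N) ∧
      Module.finrank (Localization.Away a) (LocalizedModule.Away a N) = 1 := by
  let E₁ : B ≃ₗ[B] N' := LinearEquiv.ofBijective (LinearMap.toSpanSingleton B N' t) ht
  exact exists_away_free_of_tensor_equiv N (hbc.equiv ≪≫ₗ E₁.symm) 𝔭

theorem bijective_smul_of_isBaseChange {A B : Type u} [CommRing A] [CommRing B] [Algebra A B]
    {N N' : Type u} [AddCommGroup N] [Module A N] [AddCommGroup N']
    [Module A N'] [Module B N'] [IsScalarTower A B N'] (lin : N →ₗ[A] N')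
    (hbc : IsBaseChange B lin) (σ : N) (hσ : Function.Bijective (fun a : A => a • σ)) :
    Function.Bijective (fun b : B => b • lin σ) := by
  let b : A ≃ₗ[A] N := LinearEquiv.ofBijective (LinearMap.toSpanSingleton A N σ) hσ
  have hcomp : (fun r' : B => r' • lin σ) =
      hbc.equiv ∘ (LinearEquiv.lTensor B b) ∘ (TensorProduct.rid A B).symm := by
    funext r'
    simp only [Function.comp_apply, TensorProduct.rid_symm_apply, LinearEquiv.lTensor_tmul]
    rw [hbc.equiv_tmul]
    simp [b]
  rw [hcomp]
  exact hbc.equiv.bijective.comp ((LinearEquiv.lTensor B b).bijective.comp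
    (TensorProduct.rid A B).symm.bijective)

end H16PicFF
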