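import Groth.Agent.Lib.Helper16.PicFF.Algebra
import Groth.Agent.Lib.Helper17.FlatBC
import Groth.Agent.Lib.Helper17.PbZero
import Groth.Agent.Lib.Helper17.FlatStructure
import Groth.Agent.Lib.Helper3.InvAmple

/-!
# Injectivity of `Pic` under faithfully flat base change, semilocal `H⁰` (helper16)
-/

set_option autoImplicit false
universe u
open CategoryTheory CategoryTheory.Limits AlgebraicGeometry Opposite TopologicalSpace

namespace H16PicFF

open Groth.Agent.Lib.Helper3 Groth.Agent.Lib.Helper3.QCSec Groth.Agent.Lib.Helper3.PbBasic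
  Groth.Agent.Lib.Helper3.InvGen Groth.Agent.Lib.Helper17.UnitBC

/-- categorical wrapper for `exists_generator_of_isPushout`. -/
theorem exists_generator_of_isPushout_cat {R S R' S' : CommRingCat.{u}} {φ : R ⟶ S} {ψ : R ⟶ R'}
    {ψ' : S ⟶ S'} {φ' : R' ⟶ S'} (hpo : IsPushout φ ψ ψ' φ') (hψ : ψ.hom.FaithfullyFlat)
    [Finite (MaximalSpectrum S)]
    {N N' : Type u} [AddCommGroup N] [Module S N] [AddCommGroup N'] [Module S' N'] {β : N → N'}
    (hβlin : ∀ (s : S) (n : N), β (s • n) = ψ'.hom s • β n)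
    (h : letI : Module R N := Module.compHom N φ.hom
         letI : Module R' N' := Module.compHom N' φ'.hom
         IsBCHom ψ.hom β)
    (e' : N') (he' : Function.Bijective (fun r' : S' => r' • e')) :
    ∃ σ : N, Function.Bijective (fun r : S => r • σ) ∧
      Function.Bijective (fun r' : S' => r' • β σ) := by
  letI aRS : Algebra R S := φ.hom.toAlgebra
  letI aRR' : Algebra R R' := ψ.hom.toAlgebra
  letI aSS' : Algebra S S' := ψ'.hom.toAlgebra
  letI aR'S' : Algebra R' S' := φ'.hom.toAlgebra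
  letI aRS' : Algebra R S' := ((algebraMap S S').comp (algebraMap R S)).toAlgebra
  haveI t1 : IsScalarTower R S S' := IsScalarTower.of_algebraMap_eq fun _ => rfl
  haveI t2 : IsScalarTower R R' S' :=
    IsScalarTower.of_algebraMap_eq fun r => congr($(hpo.w).hom r)
  haveI po : Algebra.IsPushout R S R' S' := CommRingCat.isPushout_iff_isPushout.mp hpo
  haveI po' : Algebra.IsPushout R R' S S' := po.symm
  letI mRN : Module R N := Module.compHom N φ.hom
  haveI : IsScalarTower R S N := IsScalarTower.of_algebraMap_smul fun _ _ => rfl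
  letI mR'N' : Module R' N' := Module.compHom N' φ'.hom
  haveI : IsScalarTower R' S' N' := IsScalarTower.of_algebraMap_smul fun _ _ => rfl
  letI mSN' : Module S N' := Module.compHom N' ψ'.hom
  haveI : IsScalarTower S S' N' := IsScalarTower.of_algebraMap_smul fun _ _ => rfl
  letI mRN' : Module R N' := Module.compHom N' ψ.hom
  haveI : IsScalarTower R R' N' := IsScalarTower.of_algebraMap_smul fun _ _ => rfl
  haveI : IsScalarTower R S N' := IsScalarTower.of_algebraMap_smul fun r x => by
    show ψ'.hom (φ.hom r) • x = φ'.hom (ψ.hom r) • x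
    rw [show ψ'.hom (φ.hom r) = φ'.hom (ψ.hom r) from congr($(hpo.w).hom r)]
  haveI : Module.FaithfullyFlat R R' := RingHom.faithfullyFlat_algebraMap_iff.mp hψ
  obtain ⟨lin, hlin, hbc⟩ := h
  let fS : N →ₗ[S] N' :=
    { toFun := β
      map_add' := fun a b => by rw [← hlin, ← hlin, ← hlin, map_add]
      map_smul' := fun s n => hβlin s n }
  have hf : IsBaseChange R' (fS.restrictScalars R) := by
    have : fS.restrictScalars R = lin := LinearMap.ext fun m => (hlin m).symm
    rw [this]
    exact hbc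
  exact exists_generator_of_isPushout (A := R) (B := R') (R := S) (R' := S') fS hf e' he'

/-- **Injectivity of `Pic` under faithfully flat affine base change** for qcqs `X` with semilocal
ring of global functions. -/
theorem trivial_of_trivial_pullback {X S X' S' : Scheme.{u}} {f : X ⟶ S} {g : S' ⟶ S}
    {g' : X' ⟶ X} {f' : X' ⟶ S'} (hc : IsPullback g' f' f g) [IsAffine S] [IsAffine S']
    [Flat g] [Surjective g] [CompactSpace X] [QuasiSeparatedSpace X]
    (hsl : Finite (MaximalSpectrum Γ(X, ⊤))) (L : X.Modules) (hL : PicF.IsInvertible L)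
    (htriv : Nonempty ((Scheme.Modules.pullback g').obj L ≅ Coh.structureModule X')) :
    Nonempty (L ≅ Coh.structureModule X) := by
  obtain ⟨θ⟩ := htriv
  haveI : L.IsQuasicoherent := InvCoh.isQuasicoherent_of_isInvertible hL
  haveI : Flat g' := MorphismProperty.of_isPullback hc.flip (inferInstance : Flat g)
  haveI : Surjective g' := MorphismProperty.of_isPullback hc.flip (inferInstance : Surjective g)
  have hVV : (⊤ : S'.Opens) ≤ g ⁻¹ᵁ ⊤ := le_top
  have hW : (⊤ : X.Opens) ≤ f ⁻¹ᵁ ⊤ := le_top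
  have hcpt : IsCompact ((⊤ : X.Opens) : Set X) := isCompact_univ
  have hqs : IsQuasiSeparated ((⊤ : X.Opens) : Set X) := isQuasiSeparated_univ
  have hbc := isBCHom_cmp_of_qcqs hc L hVV (isAffineOpen_top S) (isAffineOpen_top S') hW hcpt hqs
  have hpo := (isIso_pushoutSection_iff hc hVV hW rfl).mp
    (isIso_pushoutSection_of_isQuasiSeparated_of_flat_right hc hVV hW rfl (isAffineOpen_top S)
      (isAffineOpen_top S') hcpt hqs)
  have hψ : (g.appLE ⊤ ⊤ hVV).hom.FaithfullyFlat := by
    have h1 := (Flat.flat_and_surjective_iff_faithfullyFlat_of_isAffine (f := g)).mp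
      ⟨inferInstance, inferInstance⟩
    have h2 : g.appLE ⊤ ⊤ hVV = g.appTop := by
      rw [Scheme.Hom.appTop, Scheme.Hom.app_eq_appLE]
      rfl
    rw [h2]
    exact h1
  -- generator of L' over U'
  have hgen0 : IsGen ((Scheme.Modules.pullback g').obj L) (up g' f' ⊤ ⊤)
      (sec θ.inv (up g' f' ⊤ ⊤)) := by
    intro V hV
    rw [res_sec, ← bijective_app_iff]
    exact (ConcreteCategory.isIso_iff_bijective (θ.inv.app V)).mp inferInstance
  haveI := hsl
  have hbc' : letI : Module Γ(S, ⊤) Γ(L, ⊤) := Module.compHom Γ(L, ⊤) (f.appLE ⊤ ⊤ hW).hom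
      letI : Module Γ(S', ⊤) Γ((Scheme.Modules.pullback g').obj L, up g' f' ⊤ ⊤) :=
        Module.compHom Γ((Scheme.Modules.pullback g').obj L, up g' f' ⊤ ⊤)
          (f'.appLE ⊤ (up g' f' ⊤ ⊤) inf_le_right).hom
      IsBCHom (g.appLE ⊤ ⊤ hVV).hom
        (fun τ : Γ(L, ⊤) => unitSec g' L ⊤ (up g' f' ⊤ ⊤) inf_le_left τ) := hbc
  obtain ⟨σ, -, hσ⟩ := exists_generator_of_isPushout_cat hpo hψ
    (N := Γ(L, ⊤)) (N' := Γ((Scheme.Modules.pullback g').obj L, up g' f' ⊤ ⊤))
    (β := fun τ => unitSec g' L ⊤ (up g' f' ⊤ ⊤) inf_le_left τ)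
    (fun s n => by
      show unitSec g' L ⊤ (up g' f' ⊤ ⊤) inf_le_left (s • n) =
        _ • unitSec g' L ⊤ (up g' f' ⊤ ⊤) inf_le_left n
      unfold unitSec
      rw [pull_smul, res_smul]
      rfl)
    hbc' (sec θ.inv (up g' f' ⊤ ⊤)) hgen0.self
  obtain ⟨u, hu, hu2⟩ := hgen0.self.exists_unit
    (m' := unitSec g' L ⊤ (up g' f' ⊤ ⊤) inf_le_left σ) hσ
  have hgen : IsGen ((Scheme.Modules.pullback g').obj L) (up g' f' ⊤ ⊤)
      (unitSec g' L ⊤ (up g' f' ⊤ ⊤) inf_le_left σ) := by
    rw [hu2]
    exact hgen0.smul_unit hu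
  let s := InvAmple.globalHom L σ
  have hiso : IsIso (pullHom g' s) := by
    rw [Scheme.Modules.Hom.isIso_iff_isIso_app]
    intro V
    rw [ConcreteCategory.isIso_iff_bijective, bijective_app_iff]
    have hVU : V ≤ up g' f' ⊤ ⊤ := fun x _ => ⟨trivial, trivial⟩
    have h4 : sec (pullHom g' s) V = res ((Scheme.Modules.pullback g').obj L) hVU
        (unitSec g' L ⊤ (up g' f' ⊤ ⊤) inf_le_left σ) := by
      have hV' : V ≤ g' ⁻¹ᵁ ⊤ := le_top
      rw [← res_sec (pullHom g' s) hV', sec_pullHom, InvAmple.sec_globalHom, res_self]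
      unfold unitSec
      rw [res_res]
    rw [h4]
    exact hgen V hVU
  haveI : IsIso ((Scheme.Modules.pullback g').map s) := by
    have : pullHom g' s = (pbUnit g').inv ≫ (Scheme.Modules.pullback g').map s := rfl
    rw [this] at hiso
    exact IsIso.of_isIso_comp_left (pbUnit g').inv _
  haveI : ∀ k : Unit, Flat ((fun _ : Unit => g') k) := fun _ => inferInstance
  haveI : IsIso s := Groth.Agent.Lib.Helper17.PbZero.isIso_of_isIso_pullback_family (fun _ : Unit => g')
    (fun x => ⟨(), g'.surjective x⟩) s (fun _ => inferInstance)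
  exact ⟨(asIso s).symm⟩

end H16PicFF
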