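import Groth.Agent.Lib.Helper16.PicFF.Main
import Groth.Agent.Lib.Helper3.LocFreeCrit
import Groth.Agent.Lib.Helper3.CounitGG
import Groth.Agent.Lib.Helper3.PbTensor
import Groth.Agent.Lib.Helper3.QCPush
import Groth.Prelude.Def_Formal2

/-!
# Pushforward of an invertible module trivialised by a faithfully flat base change (helper16)

`f : X ⟶ Y` qcqs with `O_Y ≅ f_* O_X`, `g : Y' ⟶ Y` fpqc, `L` invertible on `X` with trivial pullback
to `X ×_Y Y'`: then `f_* L` is invertible and `f^* f_* L ⟶ L` is an isomorphism.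
-/

set_option autoImplicit false
universe u
open CategoryTheory CategoryTheory.Limits AlgebraicGeometry Opposite TopologicalSpace

namespace H16PicFF

open Groth.Agent.Lib.Helper3 Groth.Agent.Lib.Helper3.QCSec Groth.Agent.Lib.Helper3.PbBasic
  Groth.Agent.Lib.Helper3.InvGen Groth.Agent.Lib.Helper17.UnitBC
  Groth.Agent.Lib.Helper3.FreeBasis Groth.Agent.Lib.Helper3.SecLoc

/-! ### algebra wrappers -/

theorem exists_away_free_of_isBCHom {A B : Type u} [CommRing A] [CommRing B] (φ : A →+* B)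
    (hφ : φ.FaithfullyFlat) {N N' : Type u} [AddCommGroup N] [Module A N] [AddCommGroup N']
    [Module B N'] {β : N → N'} (h : IsBCHom φ β) (t : N')
    (ht : Function.Bijective (fun b : B => b • t)) (𝔭 : Ideal A) [𝔭.IsPrime] :
    ∃ a ∉ 𝔭, Nontrivial (Localization.Away a) ∧
      Module.Free (Localization.Away a) (LocalizedModule.Away a N) ∧
      Module.Finite (Localization.Away a) (LocalizedModule.Away a N) ∧
      Module.finrank (Localization.Away a) (LocalizedModule.Away a N) = 1 := by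
  letI := φ.toAlgebra
  letI : Module A N' := Module.compHom N' φ
  haveI : IsScalarTower A B N' := IsScalarTower.of_algebraMap_smul fun _ _ => rfl
  haveI : Module.FaithfullyFlat A B := RingHom.faithfullyFlat_algebraMap_iff.mp hφ
  obtain ⟨lin, hlin, hbc⟩ := h
  exact exists_away_free_of_isBaseChange lin hbc t ht 𝔭

theorem bijective_smul_of_isBCHom {A B : Type u} [CommRing A] [CommRing B] (φ : A →+* B)
    {N N' : Type u} [AddCommGroup N] [Module A N] [AddCommGroup N']
    [Module B N'] {β : N → N'} (h : IsBCHom φ β) (σ : N)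
    (hσ : Function.Bijective (fun a : A => a • σ)) :
    Function.Bijective (fun b : B => b • β σ) := by
  letI := φ.toAlgebra
  letI : Module A N' := Module.compHom N' φ
  haveI : IsScalarTower A B N' := IsScalarTower.of_algebraMap_smul fun _ _ => rfl
  obtain ⟨lin, hlin, hbc⟩ := h
  rw [← hlin σ]
  exact bijective_smul_of_isBaseChange lin hbc σ hσ

/-! ### geometry -/

section BaseChange

variable {X Y X' Y' : Scheme.{u}} {f : X ⟶ Y} {g : Y' ⟶ Y} {g' : X' ⟶ X} {f' : X' ⟶ Y'}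

/-- sections of the pushforward base change along flat maps (over affine opens). -/
theorem isBCHom_push (hc : IsPullback g' f' f g) [QuasiCompact f] [QuasiSeparated f] [Flat g]
    (F : X.Modules) [F.IsQuasicoherent] {V : Y.Opens} {V' : Y'.Opens} (hV'V : V' ≤ g ⁻¹ᵁ V)
    (hV : IsAffineOpen V) (hV' : IsAffineOpen V') :
    IsBCHom (g.appLE V V' hV'V).hom
      (fun τ : Γ((Scheme.Modules.pushforward f).obj F, V) =>
        (show Γ((Scheme.Modules.pushforward f').obj ((Scheme.Modules.pullback g').obj F), V') from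
          unitSec g' F (f ⁻¹ᵁ V) (f' ⁻¹ᵁ V') (preimage_le_of_isPullback hc hV'V)
            (show Γ(F, f ⁻¹ᵁ V) from τ))) := by
  have hWc : IsCompact ((f ⁻¹ᵁ V : X.Opens) : Set X) := f.isCompact_preimage hV.isCompact
  have hWqs : IsQuasiSeparated ((f ⁻¹ᵁ V : X.Opens) : Set X) :=
    f.isQuasiSeparated_preimage hV.isQuasiSeparated
  have hW : f' ⁻¹ᵁ V' ≤ g' ⁻¹ᵁ (f ⁻¹ᵁ V) := preimage_le_of_isPullback hc hV'V
  have hup : up g' f' V' (f ⁻¹ᵁ V) = f' ⁻¹ᵁ V' := inf_eq_right.mpr hW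
  have h₂ := isBCHom_cmp_transport F (le_refl (f ⁻¹ᵁ V)) hV'V hup hW le_rfl
    (isBCHom_cmp_of_qcqs hc F hV'V hV hV' (le_refl (f ⁻¹ᵁ V)) hWc hWqs)
  exact IsBCHom.transfer h₂ (M₂ := Γ((Scheme.Modules.pushforward f).obj F, V))
    (N₂ := Γ((Scheme.Modules.pushforward f').obj ((Scheme.Modules.pullback g').obj F), V'))
    (AddEquiv.refl _)
    (fun r m => by
      show (f.app V).hom r • (show Γ(F, f ⁻¹ᵁ V) from m) =
        (f.appLE V (f ⁻¹ᵁ V) le_rfl).hom r • (show Γ(F, f ⁻¹ᵁ V) from m)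
      rw [Scheme.Hom.app_eq_appLE])
    (AddEquiv.refl _)
    (fun r m => by
      show (f'.appLE V' (f' ⁻¹ᵁ V') _).hom r •
          (show Γ((Scheme.Modules.pullback g').obj F, f' ⁻¹ᵁ V') from m) =
        (f'.app V').hom r • (show Γ((Scheme.Modules.pullback g').obj F, f' ⁻¹ᵁ V') from m)
      rw [Scheme.Hom.app_eq_appLE])

/-- `O_Y ≅ f_* O_X` over an affine `V` persists after flat base change. -/
theorem bijective_app_of_bijective_app (hc : IsPullback g' f' f g) [QuasiCompact f]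
    [QuasiSeparated f] [Flat g] {V : Y.Opens} {V' : Y'.Opens} (hV'V : V' ≤ g ⁻¹ᵁ V)
    (hV : IsAffineOpen V) (hV' : IsAffineOpen V') (hfV : Function.Bijective (f.app V)) :
    Function.Bijective (f'.app V') := by
  have hWc : IsCompact ((f ⁻¹ᵁ V : X.Opens) : Set X) := f.isCompact_preimage hV.isCompact
  have hWqs : IsQuasiSeparated ((f ⁻¹ᵁ V : X.Opens) : Set X) :=
    f.isQuasiSeparated_preimage hV.isQuasiSeparated
  have hpo := (isIso_pushoutSection_iff hc hV'V (le_refl (f ⁻¹ᵁ V)) rfl).mp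
    (isIso_pushoutSection_of_isQuasiSeparated_of_flat_right hc hV'V (le_refl (f ⁻¹ᵁ V)) rfl hV hV'
      hWc hWqs)
  haveI : IsIso (f.appLE V (f ⁻¹ᵁ V) le_rfl) := by
    rw [← Scheme.Hom.app_eq_appLE]
    exact (ConcreteCategory.isIso_iff_bijective (f.app V)).mpr hfV
  have hiso := hpo.isIso_inr_of_isIso
  have hW : f' ⁻¹ᵁ V' ≤ g' ⁻¹ᵁ (f ⁻¹ᵁ V) := preimage_le_of_isPullback hc hV'V
  have hup : g' ⁻¹ᵁ (f ⁻¹ᵁ V) ⊓ f' ⁻¹ᵁ V' = f' ⁻¹ᵁ V' := inf_eq_right.mpr hW
  have key : ∀ (U'' : X'.Opens) (_ : U'' = f' ⁻¹ᵁ V') (e : U'' ≤ f' ⁻¹ᵁ V'),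
      IsIso (f'.appLE V' U'' e) → IsIso (f'.app V') := by
    intro U'' h e hi
    subst h
    rwa [← Scheme.Hom.app_eq_appLE] at hi
  haveI := key _ hup _ hiso
  exact (ConcreteCategory.isIso_iff_bijective (f'.app V')).mp inferInstance

end BaseChange

/-- a generator upstairs is a generator of the pushforward when `O_Y(V) ≅ O_X(f⁻¹V)`. -/
theorem bijective_smul_push_iff {X Y : Scheme.{u}} (f : X ⟶ Y) (L : X.Modules) (V : Y.Opens)
    (hf : Function.Bijective (f.app V)) (t : Γ(L, f ⁻¹ᵁ V)) :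
    Function.Bijective (fun b : Γ(Y, V) =>
      b • (show Γ((Scheme.Modules.pushforward f).obj L, V) from t)) ↔ IsGenAt L (f ⁻¹ᵁ V) t := by
  have : (fun b : Γ(Y, V) => b • (show Γ((Scheme.Modules.pushforward f).obj L, V) from t)) =
      (fun c : Γ(X, f ⁻¹ᵁ V) => c • t) ∘ (f.app V) := by
    funext b
    rfl
  rw [this]
  exact Function.Bijective.of_comp_iff _ hf

/-- a free rank one localisation of the sections over an affine open gives a basis. -/
theorem exists_isBasis_one_of_away_free {Y : Scheme.{u}} (M : Y.Modules) [M.IsQuasicoherent]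
    {V : Y.Opens} (hV : IsAffineOpen V) (a : Γ(Y, V))
    (hnt : Nontrivial (Localization.Away a))
    (hfree : Module.Free (Localization.Away a) (LocalizedModule.Away a Γ(M, V)))
    (hfin : Module.Finite (Localization.Away a) (LocalizedModule.Away a Γ(M, V)))
    (hrk : Module.finrank (Localization.Away a) (LocalizedModule.Away a Γ(M, V)) = 1) :
    ∃ e : Fin 1 → Γ(M, Y.basicOpen a), IsBasis M (Y.basicOpen a) e := by
  haveI := hfree
  haveI := hfin
  haveI := hnt
  let b := Module.finBasis (Localization (Submonoid.powers a))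
    (LocalizedModule (Submonoid.powers a) Γ(M, V))
  have := hV.isLocalization_basicOpen a
  letI := SecLoc.modBasicOpen M a
  have := isLocalizedModule_resLin M hV a
  obtain ⟨b'⟩ := SemilocalAlg.nonempty_basis_of_isLocalizedModule (Submonoid.powers a)
    Γ(Y, Y.basicOpen a) (resLin M a) (b.reindex (finCongr hrk))
  exact ⟨fun i => b' i, isBasis_of_isBasisAt M (hV.basicOpen a) (isBasisAt_of_basis M _ b')⟩


section Main

variable {X Y X' Y' : Scheme.{u}} {f : X ⟶ Y} {g : Y' ⟶ Y} {g' : X' ⟶ X} {f' : X' ⟶ Y'}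

/-- local freeness of `f_* L` near a point of an affine `V`, given one faithfully flat affine
`V'` over `V`. -/
theorem exists_isBasis_push (hc : IsPullback g' f' f g) [QuasiCompact f] [QuasiSeparated f]
    [Flat g] (L : X.Modules) [L.IsQuasicoherent]
    (θ : (Scheme.Modules.pullback g').obj L ≅ Coh.structureModule X')
    {V : Y.Opens} {V' : Y'.Opens} (hV'V : V' ≤ g ⁻¹ᵁ V) (hV : IsAffineOpen V)
    (hV' : IsAffineOpen V') (hfV : Function.Bijective (f.app V))
    (hφ : (g.appLE V V' hV'V).hom.FaithfullyFlat) (y : Y) (hy : y ∈ V) :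
    ∃ (U : Y.Opens) (e : Fin 1 → Γ((Scheme.Modules.pushforward f).obj L, U)), y ∈ U ∧
      IsBasis ((Scheme.Modules.pushforward f).obj L) U e := by
  haveI : ((Scheme.Modules.pushforward f).obj L).IsQuasicoherent :=
    QCSec.isQuasicoherent_pushforward f L
  have hbc := isBCHom_push hc L hV'V hV hV'
  have hf' := bijective_app_of_bijective_app hc hV'V hV hV' hfV
  have ht : IsGenAt ((Scheme.Modules.pullback g').obj L) (f' ⁻¹ᵁ V')
      (sec θ.inv (f' ⁻¹ᵁ V')) := by
    rw [← bijective_app_iff]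
    exact (ConcreteCategory.isIso_iff_bijective (θ.inv.app _)).mp inferInstance
  have htB := (bijective_smul_push_iff f' _ V' hf' _).mpr ht
  obtain ⟨a, ha, hnt, hfree, hfin, hrk⟩ := exists_away_free_of_isBCHom _ hφ hbc _ htB
    (hV.primeIdealOf ⟨y, hy⟩).asIdeal
  obtain ⟨e, he⟩ := exists_isBasis_one_of_away_free _ hV a hnt hfree hfin hrk
  exact ⟨Y.basicOpen a, e, (mem_basicOpen_iff_notMem_primeIdealOf hV y hy a).mpr ha, he⟩

/-- the base change of a generator of `f_* L` over an affine `V` generates `g'^* L` over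
`f'⁻¹ V'`. -/
theorem isGen_unitSec_of_isGenAt_push (hc : IsPullback g' f' f g) [QuasiCompact f]
    [QuasiSeparated f] [Flat g] (L : X.Modules) [L.IsQuasicoherent]
    (θ : (Scheme.Modules.pullback g').obj L ≅ Coh.structureModule X')
    {V : Y.Opens} {V' : Y'.Opens} (hV'V : V' ≤ g ⁻¹ᵁ V) (hV : IsAffineOpen V)
    (hV' : IsAffineOpen V') (hfV : Function.Bijective (f.app V))
    (e : Γ((Scheme.Modules.pushforward f).obj L, V))
    (he : IsGenAt ((Scheme.Modules.pushforward f).obj L) V e) :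
    IsGen ((Scheme.Modules.pullback g').obj L) (f' ⁻¹ᵁ V')
      (unitSec g' L (f ⁻¹ᵁ V) (f' ⁻¹ᵁ V') (preimage_le_of_isPullback hc hV'V)
        (show Γ(L, f ⁻¹ᵁ V) from e)) := by
  have hbc := isBCHom_push hc L hV'V hV hV'
  have hf' := bijective_app_of_bijective_app hc hV'V hV hV' hfV
  have h1 := bijective_smul_of_isBCHom _ hbc e he
  have h2 := (bijective_smul_push_iff f' _ V' hf'
    (unitSec g' L (f ⁻¹ᵁ V) (f' ⁻¹ᵁ V') (preimage_le_of_isPullback hc hV'V)
      (show Γ(L, f ⁻¹ᵁ V) from e))).mp h1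
  have hgen0 : IsGen ((Scheme.Modules.pullback g').obj L) (f' ⁻¹ᵁ V')
      (sec θ.inv (f' ⁻¹ᵁ V')) := by
    intro W hW
    rw [res_sec, ← bijective_app_iff]
    exact (ConcreteCategory.isIso_iff_bijective (θ.inv.app W)).mp inferInstance
  obtain ⟨u, hu, hu2⟩ := hgen0.self.exists_unit h2
  rw [hu2]
  exact hgen0.smul_unit hu

end Main

/-- descent of generators of an invertible module along a surjective morphism -/
theorem isGen_of_isGen_pull {X' X : Scheme.{u}} (g' : X' ⟶ X) [Surjective g'] {L : X.Modules}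
    (hL : PicF.IsInvertible L) {U : X.Opens} (e : Γ(L, U))
    (h : IsGen ((Scheme.Modules.pullback g').obj L) (g' ⁻¹ᵁ U) (pull g' L U e)) :
    IsGen L U e := by
  apply isGen_of_local
  intro x hx
  obtain ⟨W₀, ℓ₀, hxW₀, hg₀⟩ := exists_isGen hL x
  have hWU : W₀ ⊓ U ≤ U := inf_le_right
  have hg : IsGen L (W₀ ⊓ U) (res L inf_le_left ℓ₀) := hg₀.mono inf_le_left
  obtain ⟨c, hc⟩ := hg.self.exists_coord (res L hWU e)
  refine ⟨W₀ ⊓ U, hWU, ⟨hxW₀, hx⟩, ?_⟩
  have hpl := isGen_pull g' hg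
  have hpe : IsGen ((Scheme.Modules.pullback g').obj L) (g' ⁻¹ᵁ (W₀ ⊓ U))
      (pull g' L (W₀ ⊓ U) (res L hWU e)) := by
    rw [← res_pull g' L hWU e]
    exact h.mono _
  rw [← hc, pull_smul] at hpe
  obtain ⟨u, hu, hu2⟩ := hpl.self.exists_unit hpe.self
  have huc : (g'.app (W₀ ⊓ U)) c = u := hpl.self.smul_inj hu2
  have hunit' : IsUnit ((g'.app (W₀ ⊓ U)) c) := by
    rw [huc]
    exact hu
  have hcu : IsUnit c := by
    refine RingedSpace.isUnit_of_isUnit_germ (X := X.toRingedSpace) (W₀ ⊓ U) c (fun z hz => ?_)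
    obtain ⟨z', rfl⟩ := g'.surjective z
    have h1 : z' ∈ X'.basicOpen ((g'.app (W₀ ⊓ U)) c) := by
      rw [X'.basicOpen_of_isUnit hunit']
      exact hz
    rw [← Scheme.preimage_basicOpen] at h1
    exact (X.mem_basicOpen c (g' z') hz).mp h1
  rw [← hc]
  exact hg.smul_unit hcu

/-- **`f_* L` is invertible.** -/
theorem isInvertible_pushforward_of_trivial_pullback {X Y Y' : Scheme.{u}} (f : X ⟶ Y)
    [QuasiCompact f] [QuasiSeparated f] (hf : ∀ V : Y.Opens, Function.Bijective (f.app V))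
    (g : Y' ⟶ Y) [Flat g] [Surjective g] [QuasiCompact g] (L : X.Modules)
    (hL : PicF.IsInvertible L)
    (θ : (Scheme.Modules.pullback (pullback.fst f g)).obj L ≅
      Coh.structureModule (pullback f g)) :
    PicF.IsInvertible ((Scheme.Modules.pushforward f).obj L) := by
  haveI : L.IsQuasicoherent := InvCoh.isQuasicoherent_of_isInvertible hL
  have key : ∀ y : Y, ∃ (U : Y.Opens) (e : Fin 1 → Γ((Scheme.Modules.pushforward f).obj L, U)),
      y ∈ U ∧ IsBasis ((Scheme.Modules.pushforward f).obj L) U e := by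
    intro y
    obtain ⟨V, hV, hyV⟩ := QCProps.exists_affine_nbhd y
    haveI : CompactSpace ↥((g ⁻¹ᵁ V : Y'.Opens) : Scheme.{u}) :=
      isCompact_iff_compactSpace.mp (g.isCompact_preimage hV.isCompact)
    obtain ⟨W, q, hqs, hqf, hW⟩ :=
      Scheme.exists_hom_isAffine_of_isZariskiLocalAtSource @Flat ((g ⁻¹ᵁ V : Y'.Opens) : Scheme.{u})
    haveI := hqs
    haveI := hqf
    haveI := hW
    let h : W ⟶ Y' := q ≫ (g ⁻¹ᵁ V).ι
    let p : W ⟶ Y := h ≫ g
    haveI : Flat p := by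
      dsimp only [p, h]
      infer_instance
    let k : pullback f p ⟶ pullback f g :=
      pullback.lift (pullback.fst f p) (pullback.snd f p ≫ h)
        (by rw [Category.assoc]; exact pullback.condition)
    have hk : k ≫ pullback.fst f g = pullback.fst f p := pullback.lift_fst _ _ _
    let θW : (Scheme.Modules.pullback (pullback.fst f p)).obj L ≅
        Coh.structureModule (pullback f p) :=
      (Scheme.Modules.pullbackCongr hk).symm.app L ≪≫
        (Scheme.Modules.pullbackComp k (pullback.fst f g)).symm.app L ≪≫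
        (Scheme.Modules.pullback k).mapIso θ ≪≫ pbUnit k
    have hpw : ∀ w : W, p w = g ((g ⁻¹ᵁ V).ι (q w)) := fun w => rfl
    have hV'V : (⊤ : W.Opens) ≤ p ⁻¹ᵁ V := by
      intro w _
      show p w ∈ V
      rw [hpw]
      exact (q w).2
    have hφ : (p.appLE V ⊤ hV'V).hom.FaithfullyFlat := by
      rw [RingHom.FaithfullyFlat.iff_flat_and_comap_surjective]
      refine ⟨p.flat_appLE hV (isAffineOpen_top W) hV'V, ?_⟩
      intro 𝔭
      obtain ⟨x, hx⟩ := hV.isoSpec.hom.homeomorph.surjective 𝔭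
      obtain ⟨y', hy'⟩ := g.surjective x.1
      have hy'V : y' ∈ g ⁻¹ᵁ V := by
        show g y' ∈ V
        rw [hy']
        exact x.2
      obtain ⟨w, hw⟩ := q.surjective ⟨y', hy'V⟩
      refine ⟨(isAffineOpen_top W).primeIdealOf ⟨w, trivial⟩, ?_⟩
      have h1 := IsAffineOpen.comap_primeIdealOf_appLE V hV ⊤ (isAffineOpen_top W) hV'V
        (x := w) trivial
      rw [h1, ← hx]
      have hpx : p w = x.1 := by
        rw [hpw, hw]
        exact hy'
      show hV.primeIdealOf ⟨p w, _⟩ = hV.primeIdealOf x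
      congr 1
      exact Subtype.ext hpx
    exact exists_isBasis_push (IsPullback.of_hasPullback f p) L θW hV'V hV (isAffineOpen_top W)
      (hf V) hφ y hyV
  intro y
  obtain ⟨U, e, hyU, he⟩ := key y
  obtain ⟨φ⟩ := nonempty_iso_of_isBasis he
  exact ⟨U, hyU, ⟨φ ≪≫ coproductUniqueIso
    (fun _ : Fin 1 => Coh.structureModule (U : Scheme.{u}))⟩⟩

/-- **the counit `f^* f_* L ⟶ L` is an isomorphism.** -/
theorem isIso_counit_of_trivial_pullback {X Y Y' : Scheme.{u}} (f : X ⟶ Y)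
    [QuasiCompact f] [QuasiSeparated f] (hf : ∀ V : Y.Opens, Function.Bijective (f.app V))
    (g : Y' ⟶ Y) [Flat g] [Surjective g] (L : X.Modules) (hL : PicF.IsInvertible L)
    (θ : (Scheme.Modules.pullback (pullback.fst f g)).obj L ≅
      Coh.structureModule (pullback f g))
    (hM : PicF.IsInvertible ((Scheme.Modules.pushforward f).obj L)) :
    IsIso ((Scheme.Modules.pullbackPushforwardAdjunction f).counit.app L) := by
  haveI : L.IsQuasicoherent := InvCoh.isQuasicoherent_of_isInvertible hL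
  have hc := IsPullback.of_hasPullback f g
  apply PbTensor.isIso_of_isGen_cover
  intro x
  obtain ⟨V, e, hV, hyV, hg⟩ := exists_affine_isGen hM (f x)
  refine ⟨f ⁻¹ᵁ V, pull f _ V e, hyV, isGen_pull f hg, ?_⟩
  have h1 := CounitGG.counit_pull f L V (show Γ(L, f ⁻¹ᵁ V) from e)
  rw [h1]
  apply isGen_of_isGen_pull (pullback.fst f g) hL
  apply isGen_of_local
  intro x' hx'
  have hy' : pullback.snd f g x' ∈ g ⁻¹ᵁ V := by
    show g (pullback.snd f g x') ∈ V
    rw [← Scheme.Hom.comp_apply, ← pullback.condition, Scheme.Hom.comp_apply]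
    exact hx'
  obtain ⟨V', hV', hy'V', hV'V₀⟩ := exists_isAffineOpen_mem_and_subset hy'
  have hV'V : V' ≤ g ⁻¹ᵁ V := fun z hz => hV'V₀ hz
  refine ⟨pullback.snd f g ⁻¹ᵁ V', preimage_le_of_isPullback hc hV'V, hy'V', ?_⟩
  exact isGen_unitSec_of_isGenAt_push hc L θ hV'V hV hV' (hf V) e hg.self

end H16PicFF

namespace H16PicFF

open Groth.Agent.Lib.Helper3 Groth.Agent.Lib.Helper3.QCSec Groth.Agent.Lib.Helper3.PbBasic
  Groth.Agent.Lib.Helper3.InvGen Groth.Agent.Lib.Helper17.UnitBC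

/-- `O_{Y'} ⟶ f'_* O_{X'}` is an isomorphism when `O_Y ≅ f_* O_X` and `g` is flat. -/
theorem isIso_unitPush {X Y X' Y' : Scheme.{u}} {f : X ⟶ Y} {g : Y' ⟶ Y} {g' : X' ⟶ X}
    {f' : X' ⟶ Y'} (hc : IsPullback g' f' f g) [QuasiCompact f] [QuasiSeparated f] [Flat g]
    (hf : ∀ V : Y.Opens, Function.Bijective (f.app V)) :
    IsIso ((Scheme.Modules.pullbackPushforwardAdjunction f').unit.app (Coh.structureModule Y') ≫
      (Scheme.Modules.pushforward f').map (pbUnitHom f')) := by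
  haveI : QuasiCompact f' := MorphismProperty.of_isPullback hc (inferInstance : QuasiCompact f)
  haveI : QuasiSeparated f' :=
    MorphismProperty.of_isPullback hc (inferInstance : QuasiSeparated f)
  haveI : (Coh.structureModule X').IsQuasicoherent := QCOpen.isQuasicoherent_structureModule X'
  haveI : ((Scheme.Modules.pushforward f').obj (Coh.structureModule X')).IsQuasicoherent :=
    QCSec.isQuasicoherent_pushforward f' _
  apply isIso_of_bijective_on_basis
  intro W' y' hy'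
  obtain ⟨V, hV, hyV⟩ := QCProps.exists_affine_nbhd (g y')
  have hy'' : y' ∈ W' ⊓ g ⁻¹ᵁ V := ⟨hy', hyV⟩
  obtain ⟨V', hV', hy'V', hsub⟩ := exists_isAffineOpen_mem_and_subset hy''
  have hV'V : V' ≤ g ⁻¹ᵁ V := fun z hz => (hsub hz).2
  refine ⟨V', hV', hy'V', fun z hz => (hsub hz).1, ?_⟩
  have hb := bijective_app_of_bijective_app hc hV'V hV hV' (hf V)
  have hfun : ∀ a : Γ(Y', V'),
      ((Scheme.Modules.pullbackPushforwardAdjunction f').unit.app (Coh.structureModule Y') ≫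
        (Scheme.Modules.pushforward f').map (pbUnitHom f')).app V' (ofFun V' a) =
      ofFun (f' ⁻¹ᵁ V') ((f'.app V') a) := fun a => pbUnitHom_pull f' V' a
  constructor
  · intro a b hab
    exact hb.1 ((hfun a).symm.trans (hab.trans (hfun b)))
  · intro c
    obtain ⟨a, ha⟩ := hb.2 c
    exact ⟨a, (hfun a).trans ha⟩

/-- `Pic(Y) → Pic(Y')` injective implies `Pic(X) → Pic(X')` injective. -/
theorem picPullbackInjective_fst {X Y Y' : Scheme.{u}} (f : X ⟶ Y)
    [QuasiCompact f] [QuasiSeparated f] (hf : ∀ V : Y.Opens, Function.Bijective (f.app V))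
    (g : Y' ⟶ Y) [Flat g] [Surjective g] [QuasiCompact g] (hg : Formal2.PicPullbackInjective g) :
    Formal2.PicPullbackInjective (pullback.fst f g) := by
  rintro L hL ⟨θ⟩
  haveI : L.IsQuasicoherent := InvCoh.isQuasicoherent_of_isInvertible hL
  have hM := isInvertible_pushforward_of_trivial_pullback f hf g L hL θ
  haveI := isIso_counit_of_trivial_pullback f hf g L hL θ hM
  have hc := IsPullback.of_hasPullback f g
  haveI := isIso_bcMap_of_flat hc L
  haveI := isIso_unitPush hc hf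
  obtain ⟨e2⟩ := hg _ hM ⟨asIso (bcMap hc L) ≪≫ (Scheme.Modules.pushforward _).mapIso θ ≪≫
    (asIso ((Scheme.Modules.pullbackPushforwardAdjunction (pullback.snd f g)).unit.app
      (Coh.structureModule Y') ≫
      (Scheme.Modules.pushforward (pullback.snd f g)).map (pbUnitHom (pullback.snd f g)))).symm⟩
  exact ⟨(asIso ((Scheme.Modules.pullbackPushforwardAdjunction f).counit.app L)).symm ≪≫
    (Scheme.Modules.pullback f).mapIso e2 ≪≫ pbUnit f⟩

end H16PicFF

/-! ### generalisation: the pullback of `L` is only locally trivial over the base `Y'` -/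

namespace H16PicFF

open Groth.Agent.Lib.Helper3 Groth.Agent.Lib.Helper3.QCSec Groth.Agent.Lib.Helper3.PbBasic
  Groth.Agent.Lib.Helper3.InvGen Groth.Agent.Lib.Helper17.UnitBC
  Groth.Agent.Lib.Helper3.FreeBasis Groth.Agent.Lib.Helper3.SecLoc

theorem isGen_map_iso {X : Scheme.{u}} {A B : X.Modules} (φ : A ≅ B) {U : X.Opens} {e : Γ(A, U)}
    (h : IsGen A U e) : IsGen B U (φ.hom.app U e) := by
  intro W hW
  have h1 := h W hW
  rw [← QCExact.app_res']
  have : (fun a : Γ(X, W) => a • φ.hom.app W (res A hW e)) =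
      (φ.hom.app W) ∘ (fun a : Γ(X, W) => a • res A hW e) := by
    funext a
    exact (Scheme.Modules.Hom.app_smul φ.hom a _).symm
  unfold IsGenAt
  rw [this]
  exact ((ConcreteCategory.isIso_iff_bijective (φ.hom.app W)).mp inferInstance).comp h1

/-- gluing generators over a disjoint open cover. -/
theorem exists_isGen_top_of_disjoint_cover {Z : Scheme.{u}} (K : Z.Modules) {ι : Type u}
    (Ω : ι → Z.Opens) (hcov : ∀ z : Z, ∃ i, z ∈ Ω i) (hdisj : ∀ i j, i ≠ j → Ω i ⊓ Ω j = ⊥)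
    (e : ∀ i, Γ(K, Ω i)) (he : ∀ i, IsGen K (Ω i) (e i)) : ∃ t : Γ(K, ⊤), IsGen K ⊤ t := by
  have hbot : ∀ (a b : Γ(K, (⊥ : Z.Opens))), a = b := by
    intro a b
    exact sec_eq_of_locally_eq K (fun _ : PEmpty.{u + 1} => (⊥ : Z.Opens)) ⊥ (fun _ => le_rfl)
      bot_le a b (fun i => i.elim)
  have key : ∀ (W : Z.Opens), W = ⊥ → ∀ a b : Γ(K, W), a = b := by
    intro W hW
    subst hW
    exact hbot
  have hcompat : ∀ i j, res K (inf_le_left : Ω i ⊓ Ω j ≤ Ω i) (e i) =
      res K (inf_le_right : Ω i ⊓ Ω j ≤ Ω j) (e j) := by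
    intro i j
    by_cases hij : i = j
    · subst hij
      rfl
    · exact key _ (hdisj i j hij) _ _
  obtain ⟨t, ht⟩ := sec_glue K Ω ⊤ (fun _ => le_top)
    (fun z _ => by
      obtain ⟨i, hi⟩ := hcov z
      exact Opens.mem_iSup.mpr ⟨i, hi⟩) e hcompat
  refine ⟨t, isGen_of_local (fun z _ => ?_)⟩
  obtain ⟨i, hi⟩ := hcov z
  exact ⟨Ω i, le_top, hi, by rw [ht i]; exact he i⟩

section Main'

variable {X Y X' Y' : Scheme.{u}} {f : X ⟶ Y} {g : Y' ⟶ Y} {g' : X' ⟶ X} {f' : X' ⟶ Y'}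

theorem exists_isBasis_push' (hc : IsPullback g' f' f g) [QuasiCompact f] [QuasiSeparated f]
    [Flat g] (L : X.Modules) [L.IsQuasicoherent]
    {V : Y.Opens} {V' : Y'.Opens} (hV'V : V' ≤ g ⁻¹ᵁ V) (hV : IsAffineOpen V)
    (hV' : IsAffineOpen V') (hfV : Function.Bijective (f.app V))
    (hφ : (g.appLE V V' hV'V).hom.FaithfullyFlat)
    (t : Γ((Scheme.Modules.pullback g').obj L, f' ⁻¹ᵁ V'))
    (ht : IsGenAt ((Scheme.Modules.pullback g').obj L) (f' ⁻¹ᵁ V') t) (y : Y) (hy : y ∈ V) :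
    ∃ (U : Y.Opens) (e : Fin 1 → Γ((Scheme.Modules.pushforward f).obj L, U)), y ∈ U ∧
      IsBasis ((Scheme.Modules.pushforward f).obj L) U e := by
  haveI : ((Scheme.Modules.pushforward f).obj L).IsQuasicoherent :=
    QCSec.isQuasicoherent_pushforward f L
  have hbc := isBCHom_push hc L hV'V hV hV'
  have hf' := bijective_app_of_bijective_app hc hV'V hV hV' hfV
  have htB := (bijective_smul_push_iff f' _ V' hf' _).mpr ht
  obtain ⟨a, ha, hnt, hfree, hfin, hrk⟩ := exists_away_free_of_isBCHom _ hφ hbc _ htB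
    (hV.primeIdealOf ⟨y, hy⟩).asIdeal
  obtain ⟨e, he⟩ := exists_isBasis_one_of_away_free _ hV a hnt hfree hfin hrk
  exact ⟨Y.basicOpen a, e, (mem_basicOpen_iff_notMem_primeIdealOf hV y hy a).mpr ha, he⟩

theorem isGen_unitSec_of_isGenAt_push' (hc : IsPullback g' f' f g) [QuasiCompact f]
    [QuasiSeparated f] [Flat g] (L : X.Modules) [L.IsQuasicoherent]
    {V : Y.Opens} {V' : Y'.Opens} (hV'V : V' ≤ g ⁻¹ᵁ V) (hV : IsAffineOpen V)
    (hV' : IsAffineOpen V') (hfV : Function.Bijective (f.app V))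
    (t : Γ((Scheme.Modules.pullback g').obj L, f' ⁻¹ᵁ V'))
    (ht : IsGen ((Scheme.Modules.pullback g').obj L) (f' ⁻¹ᵁ V') t)
    (e : Γ((Scheme.Modules.pushforward f).obj L, V))
    (he : IsGenAt ((Scheme.Modules.pushforward f).obj L) V e) :
    IsGen ((Scheme.Modules.pullback g').obj L) (f' ⁻¹ᵁ V')
      (unitSec g' L (f ⁻¹ᵁ V) (f' ⁻¹ᵁ V') (preimage_le_of_isPullback hc hV'V)
        (show Γ(L, f ⁻¹ᵁ V) from e)) := by
  have hbc := isBCHom_push hc L hV'V hV hV'
  have hf' := bijective_app_of_bijective_app hc hV'V hV hV' hfV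
  have h1 := bijective_smul_of_isBCHom _ hbc e he
  have h2 := (bijective_smul_push_iff f' _ V' hf'
    (unitSec g' L (f ⁻¹ᵁ V) (f' ⁻¹ᵁ V') (preimage_le_of_isPullback hc hV'V)
      (show Γ(L, f ⁻¹ᵁ V) from e))).mp h1
  obtain ⟨u, hu, hu2⟩ := ht.self.exists_unit h2
  rw [hu2]
  exact ht.smul_unit hu

end Main'

/-- **`f_* L` is invertible** (pullback locally trivial over the base `Y'`). -/
theorem isInvertible_pushforward_of_locally_trivial_pullback {X Y Y' : Scheme.{u}} (f : X ⟶ Y)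
    [QuasiCompact f] [QuasiSeparated f] (hf : ∀ V : Y.Opens, Function.Bijective (f.app V))
    (g : Y' ⟶ Y) [Flat g] [Surjective g] [QuasiCompact g] (L : X.Modules)
    (hL : PicF.IsInvertible L)
    (hT : ∀ y' : Y', ∃ V'' : Y'.Opens, y' ∈ V'' ∧
      ∃ t : Γ((Scheme.Modules.pullback (pullback.fst f g)).obj L, pullback.snd f g ⁻¹ᵁ V''),
        IsGen ((Scheme.Modules.pullback (pullback.fst f g)).obj L) (pullback.snd f g ⁻¹ᵁ V'') t) :
    PicF.IsInvertible ((Scheme.Modules.pushforward f).obj L) := by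
  haveI : L.IsQuasicoherent := InvCoh.isQuasicoherent_of_isInvertible hL
  have key : ∀ y : Y, ∃ (U : Y.Opens) (e : Fin 1 → Γ((Scheme.Modules.pushforward f).obj L, U)),
      y ∈ U ∧ IsBasis ((Scheme.Modules.pushforward f).obj L) U e := by
    intro y
    obtain ⟨V, hV, hyV⟩ := QCProps.exists_affine_nbhd y
    choose V'' hV''mem t ht using hT
    have hA : ∀ i : {y' : Y' // y' ∈ g ⁻¹ᵁ V}, ∃ V' : Y'.Opens, IsAffineOpen V' ∧ i.1 ∈ V' ∧
        V' ≤ V'' i.1 ∧ V' ≤ g ⁻¹ᵁ V := by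
      intro i
      obtain ⟨V', hV', hy'V', hsub⟩ := exists_isAffineOpen_mem_and_subset
        (show i.1 ∈ V'' i.1 ⊓ g ⁻¹ᵁ V from ⟨hV''mem i.1, i.2⟩)
      exact ⟨V', hV', hy'V', fun z hz => (hsub hz).1, fun z hz => (hsub hz).2⟩
    choose V' hV'aff hV'mem hV'le hV'leV using hA
    have hcpt : IsCompact ((g ⁻¹ᵁ V : Y'.Opens) : Set Y') := g.isCompact_preimage hV.isCompact
    obtain ⟨T, hTcov⟩ := hcpt.elim_finite_subcover
      (fun i : {y' : Y' // y' ∈ g ⁻¹ᵁ V} => ((V' i : Y'.Opens) : Set Y')) (fun i => (V' i).isOpen)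
      (fun z hz => Set.mem_iUnion.mpr ⟨⟨z, hz⟩, hV'mem ⟨z, hz⟩⟩)
    let F : {i : {y' : Y' // y' ∈ g ⁻¹ᵁ V} // i ∈ T} → Scheme.{u} :=
      fun i => ((V' i.1 : Y'.Opens) : Scheme.{u})
    haveI : ∀ i, IsAffine (F i) := fun i => hV'aff i.1
    let h : (∐ F) ⟶ Y' := Sigma.desc (fun i => (V' i.1).ι)
    let p : (∐ F) ⟶ Y := h ≫ g
    have hιh : ∀ i, Sigma.ι F i ≫ h = (V' i.1).ι := fun i => Sigma.ι_desc _ _
    haveI : Flat h := by
      rw [IsZariskiLocalAtSource.iff_of_openCover (P := @Flat) (sigmaOpenCover F)]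
      intro i
      show Flat (Sigma.ι F i ≫ h)
      rw [hιh]
      infer_instance
    haveI : Flat p := by
      dsimp only [p]
      infer_instance
    have hWpt : ∀ w : ↥(∐ F), ∃ (i : _) (v : F i), Sigma.ι F i v = w :=
      fun w => (sigmaOpenCover F).exists_eq w
    have hh : ∀ (i : _) (v : F i), h (Sigma.ι F i v) = (V' i.1).ι v := by
      intro i v
      rw [← Scheme.Hom.comp_apply, hιh]
    have hV'V : (⊤ : (∐ F).Opens) ≤ p ⁻¹ᵁ V := by
      intro w _
      obtain ⟨i, v, rfl⟩ := hWpt w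
      show g (h (Sigma.ι F i v)) ∈ V
      rw [hh]
      exact hV'leV i.1 v.2
    have hφ : (p.appLE V ⊤ hV'V).hom.FaithfullyFlat := by
      rw [RingHom.FaithfullyFlat.iff_flat_and_comap_surjective]
      refine ⟨p.flat_appLE hV (isAffineOpen_top _) hV'V, ?_⟩
      intro 𝔭
      obtain ⟨x, hx⟩ := hV.isoSpec.hom.homeomorph.surjective 𝔭
      obtain ⟨y', hy'⟩ := g.surjective x.1
      have hy'V : y' ∈ g ⁻¹ᵁ V := by
        show g y' ∈ V
        rw [hy']
        exact x.2
      obtain ⟨i, hiT, hyi⟩ := Set.mem_iUnion₂.mp (hTcov hy'V)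
      obtain ⟨w, hw⟩ : ∃ w : ↥(∐ F), w = Sigma.ι F ⟨i, hiT⟩ ⟨y', hyi⟩ := ⟨_, rfl⟩
      refine ⟨(isAffineOpen_top (∐ F)).primeIdealOf ⟨w, trivial⟩, ?_⟩
      have h1 := IsAffineOpen.comap_primeIdealOf_appLE V hV ⊤ (isAffineOpen_top (∐ F)) hV'V
        (x := w) trivial
      rw [h1, ← hx]
      have hpx : p w = x.1 := by
        show g (h w) = x.1
        rw [hw, hh]
        exact hy'
      show hV.primeIdealOf ⟨p w, _⟩ = hV.primeIdealOf x
      congr 1
      exact Subtype.ext hpx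
    let k : pullback f p ⟶ pullback f g :=
      pullback.lift (pullback.fst f p) (pullback.snd f p ≫ h)
        (by rw [Category.assoc]; exact pullback.condition)
    have hk1 : k ≫ pullback.fst f g = pullback.fst f p := pullback.lift_fst _ _ _
    have hk2 : k ≫ pullback.snd f g = pullback.snd f p ≫ h := pullback.lift_snd _ _ _
    let Ω : {i : {y' : Y' // y' ∈ g ⁻¹ᵁ V} // i ∈ T} → (pullback f p).Opens :=
      fun i => pullback.snd f p ⁻¹ᵁ (Sigma.ι F i).opensRange
    have hΩcov : ∀ z, ∃ i, z ∈ Ω i := fun z => by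
      obtain ⟨i, v, hv⟩ := hWpt (pullback.snd f p z)
      exact ⟨i, ⟨v, hv⟩⟩
    have hΩdisj : ∀ i j, i ≠ j → Ω i ⊓ Ω j = ⊥ := by
      intro i j hij
      have hd := disjoint_opensRange_sigmaι F i j hij
      exact eq_bot_iff.mpr (fun z hz => (hd.le_bot (show pullback.snd f p z ∈
        (Sigma.ι F i).opensRange ⊓ (Sigma.ι F j).opensRange from ⟨hz.1, hz.2⟩)).elim)
    have hΩle : ∀ i, Ω i ≤ k ⁻¹ᵁ (pullback.snd f g ⁻¹ᵁ V'' i.1.1) := by
      rintro i z ⟨v, hv⟩
      show pullback.snd f g (k z) ∈ V'' i.1.1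
      have h3 : pullback.snd f g (k z) = h (pullback.snd f p z) := by
        rw [← Scheme.Hom.comp_apply, hk2, Scheme.Hom.comp_apply]
      rw [h3, ← hv, hh]
      exact hV'le i.1 v.2
    obtain ⟨tK, htK⟩ := exists_isGen_top_of_disjoint_cover
      ((Scheme.Modules.pullback k).obj ((Scheme.Modules.pullback (pullback.fst f g)).obj L)) Ω
      hΩcov hΩdisj
      (fun i => res _ (hΩle i) (pull k _ _ (t i.1.1)))
      (fun i => (isGen_pull k (ht i.1.1)).mono (hΩle i))
    have htW := isGen_map_iso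
      ((Scheme.Modules.pullbackComp k (pullback.fst f g)).app L ≪≫
        (Scheme.Modules.pullbackCongr hk1).app L) htK
    exact exists_isBasis_push' (IsPullback.of_hasPullback f p) L hV'V hV (isAffineOpen_top _)
      (hf V) hφ _ (htW _ le_top) y hyV
  intro y
  obtain ⟨U, e, hyU, he⟩ := key y
  obtain ⟨φ⟩ := nonempty_iso_of_isBasis he
  exact ⟨U, hyU, ⟨φ ≪≫ coproductUniqueIso
    (fun _ : Fin 1 => Coh.structureModule (U : Scheme.{u}))⟩⟩

/-- **the counit `f^* f_* L ⟶ L` is an isomorphism** (pullback locally trivial over `Y'`). -/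
theorem isIso_counit_of_locally_trivial_pullback {X Y Y' : Scheme.{u}} (f : X ⟶ Y)
    [QuasiCompact f] [QuasiSeparated f] (hf : ∀ V : Y.Opens, Function.Bijective (f.app V))
    (g : Y' ⟶ Y) [Flat g] [Surjective g] (L : X.Modules) (hL : PicF.IsInvertible L)
    (hT : ∀ y' : Y', ∃ V'' : Y'.Opens, y' ∈ V'' ∧
      ∃ t : Γ((Scheme.Modules.pullback (pullback.fst f g)).obj L, pullback.snd f g ⁻¹ᵁ V''),
        IsGen ((Scheme.Modules.pullback (pullback.fst f g)).obj L) (pullback.snd f g ⁻¹ᵁ V'') t)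
    (hM : PicF.IsInvertible ((Scheme.Modules.pushforward f).obj L)) :
    IsIso ((Scheme.Modules.pullbackPushforwardAdjunction f).counit.app L) := by
  haveI : L.IsQuasicoherent := InvCoh.isQuasicoherent_of_isInvertible hL
  have hc := IsPullback.of_hasPullback f g
  apply PbTensor.isIso_of_isGen_cover
  intro x
  obtain ⟨V, e, hV, hyV, hg⟩ := exists_affine_isGen hM (f x)
  refine ⟨f ⁻¹ᵁ V, pull f _ V e, hyV, isGen_pull f hg, ?_⟩
  have h1 := CounitGG.counit_pull f L V (show Γ(L, f ⁻¹ᵁ V) from e)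
  rw [h1]
  apply isGen_of_isGen_pull (pullback.fst f g) hL
  apply isGen_of_local
  intro x' hx'
  have hy' : pullback.snd f g x' ∈ g ⁻¹ᵁ V := by
    show g (pullback.snd f g x') ∈ V
    rw [← Scheme.Hom.comp_apply, ← pullback.condition, Scheme.Hom.comp_apply]
    exact hx'
  obtain ⟨V'', hV''mem, t, ht⟩ := hT (pullback.snd f g x')
  obtain ⟨V', hV', hy'V', hsub⟩ := exists_isAffineOpen_mem_and_subset
    (show pullback.snd f g x' ∈ V'' ⊓ g ⁻¹ᵁ V from ⟨hV''mem, hy'⟩)
  have hV'V : V' ≤ g ⁻¹ᵁ V := fun z hz => (hsub hz).2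
  have hV'V'' : pullback.snd f g ⁻¹ᵁ V' ≤ pullback.snd f g ⁻¹ᵁ V'' := fun z hz => (hsub hz).1
  refine ⟨pullback.snd f g ⁻¹ᵁ V', preimage_le_of_isPullback hc hV'V, hy'V', ?_⟩
  exact isGen_unitSec_of_isGenAt_push' hc L hV'V hV hV' (hf V) _ (ht.mono hV'V'') e hg.self

end H16PicFF
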